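import Cfsg.Agent.H715.PDU.RowOne

/-!
# Row PSU of S4246
-/

set_option autoImplicit false

namespace Cfsg.Agent.H715.PDU

open Cfsg Module Matrix Subgroup
open Cfsg.Agent.LieClassical.HermBasic Cfsg.Agent.LieClassical.HermSiegel
open Cfsg.Agent.ClassicalGeometry.HermOrtho
open Cfsg.Agent.ClassicalGeometry.PSUAutBasic (pr pr_surjective pr_eq_one_iff exists_center_mul)
open Cfsg.Agent.ClassicalGeometry.PSUAutCount (gm gm_mul gm_one semiConj toAut toAut_pr act_semiConj)
open Cfsg.Agent.CpAutU.Desc (toAut_mul toAut_one)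
open Cfsg.Agent.GpUn
open Cfsg.Agent.H173.RU
open Cfsg.Agent.H160.PD

universe u

variable {F : Type*} [Field F] [Fintype F] {q n l k : ℕ}

/-- **`PSU_4(2)`** -/
theorem row_four_two (hF : Fintype.card F = 2 ^ 2) : Row (PSU 4 F 2) := by
  obtain ⟨p, f, hp, hch, hqr, hf1⟩ := exists_prime_pow hF
  have hp2 : p = 2 := by
    have h1 : p ∣ 2 := by
      conv_rhs => rw [hqr]
      exact dvd_pow_self p hf1.ne'
    exact (Nat.prime_dvd_prime_iff_eq hp Nat.prime_two).1 h1
  subst hp2
  have hpF : Fact (Nat.Prime 2) := ⟨hp⟩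
  have hf : f ≠ 0 := by omega
  obtain ⟨r, h, hr⟩ := exists_even hp hf1 hqr (n := 4) ⟨2, rfl⟩ le_rfl
  have hZ := center_PSU (n := 4) hF (by omega) (by omega)
  refine One.row hZ (p := 2) (r := r) (c := 0) (e := 0) (m := 0) ?_
  refine
    { prime := hp
      good := good h hF (by omega) (by omega) hp hf hqr (by omega) le_rfl
      cent := fun x hx => (v_cent_p h hF (by omega) (Or.inl rfl) (by omega) hp hf hqr hx).le
      reg := fun b hb hb2 _ x hx hbx => ?_
      syl := fun b hb hb2 hbp => by
        have := syl_all hF (by omega) (by omega) hf hqr b hb hb2 hbp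
        rw [max_self, add_zero]
        exact this
      odd := fun h2 => absurd rfl h2
      inv := fun h2 => absurd rfl h2
      two₀ := fun h2 => absurd rfl h2
      two₁ := fun h2 => absurd rfl h2 }
  obtain ⟨t, ht⟩ : ∃ t, t = orderOf b := ⟨_, rfl⟩
  have hb1 : b ^ t = 1 := by rw [ht]; exact pow_orderOf_eq_one b
  rw [← ht] at hb hb2
  have hbne : b ≠ 1 := by
    rintro rfl
    rw [orderOf_one] at ht
    rw [ht] at hb
    exact Nat.not_prime_one hb
  have hxr : x ^ r = 1 := by rw [← hx]; exact pow_orderOf_eq_one x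
  have hx1 : x ≠ 1 := by
    rintro rfl
    rw [orderOf_one] at hx
    exact h.prime.one_lt.ne hx
  obtain ⟨A, ρ, rfl⟩ := Cfsg.Agent.ClassicalGeometry.PSUAutMain.exists_toAut hF (by omega) (by omega) b
  by_cases hρ : ρ = 1
  · subst hρ
    by_cases ht3 : t = 3
    · subst ht3
      exact absurd hbx (four_three h hF hb1 hbne x hxr hx1)
    · have hcop : t.Coprime (2 + 1) := (Nat.coprime_primes hb Nat.prime_three).2 ht3
      obtain ⟨g, B, hg, -, -, hgA⟩ := exists_su hF (by omega) hcop hb1
      have hg1 : g ≠ 1 := by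
        rintro rfl
        rw [map_one, map_one] at hgA
        exact hbne hgA
      have htF := Fact.mk hb
      obtain ⟨k, hk⟩ := Ty.exists_of_not_dvd (q := 2) hb (fun h0 => hb2
        ((Nat.prime_dvd_prime_iff_eq hb Nat.prime_two).1 h0))
      have hk4 : k ≤ 4 := by
        refine hk.le_of_dvd hF (by omega) ?_
        rw [← orderOf_eq_prime hg hg1]
        exact orderOf_dvd_natCard g
      have hk0 := hk.pos
      have hd := (dvd_tor hk (by omega) (m := k) (by omega)).2 dvd_rfl
      have ht3' : ∀ j, ¬ t ∣ 3 ^ j := fun j h0 => ht3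
        ((Nat.prime_dvd_prime_iff_eq hb Nat.prime_three).1 (hb.dvd_of_dvd_pow h0))
      have hk' : k = 4 := by
        by_contra hne
        have h1 : k = 1 ∨ k = 2 ∨ k = 3 := by omega
        rcases h1 with rfl | rfl | rfl
        · exact ht3' 1 (by rw [tor, if_neg (by decide)] at hd; exact hd)
        · exact ht3' 1 (by rw [tor, if_pos (by decide)] at hd; exact hd)
        · exact ht3' 2 (by rw [tor, if_neg (by decide)] at hd; exact hd)
      subst hk'
      have hgo : orderOf (pr 4 F 2 g) = t := by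
        apply orderOf_eq_prime
        · rw [← map_pow, hg, map_one]
        · exact pr_ne_one hk hF (by omega) (by omega) hg hg1
      rw [hgA, ← v_centralizer_eq]
      exact (v_cent_p hk hF (by omega) (Or.inl rfl) (by omega) hp hf hqr hgo).le
  · exfalso
    have := (dvd_of_field hF (by omega) hp hqr hb hb2 hb1 hρ).2
    omega

/-- **Row `PSU_n(q)`.** -/
theorem row_PSU (hF : Fintype.card F = q ^ 2) (hn : 3 ≤ n) (h32 : ¬ (n = 3 ∧ q = 2)) : Row (PSU n F q) := by
  by_cases hnp : n.Prime
  · exact row_prime hF hnp hn h32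
  · have hn3 : n ≠ 3 := by
      rintro rfl
      exact hnp Nat.prime_three
    by_cases h42 : n = 4 ∧ q = 2
    · obtain ⟨rfl, rfl⟩ := h42
      exact row_four_two hF
    · exact row_composite hF (by omega) h42 hnp

/-- **Row PSU of S4246.** -/
theorem row_psu (K : Type u) [Group K] [Finite K] [IsSimpleGroup K] (h : Cfsg.IsPSU K) :
    Cfsg.Agent.H160.PD.Row K := by
  obtain ⟨F, _, _, n, q, hF, hn, h32, ⟨e⟩⟩ := h
  exact (row_PSU hF hn h32).congr e

end Cfsg.Agent.H715.PDU
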