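import Cfsg.Agent.H715.PDU.EigGen
import Cfsg.Agent.H173.RU.Schur

/-!
# Row PSU of S4246: centralisers and normalisers of the elements of type `n` and `n - 1`

The eigenvalues of `y` over the algebraic closure are `θ ^ ((-q) ^ i)`, `i < k` (and `1`).
-/

set_option autoImplicit false

namespace Cfsg.Agent.H715.PDU

open Cfsg Module Matrix Subgroup
open Cfsg.Agent.LieClassical.HermBasic Cfsg.Agent.LieClassical.HermSiegel
open Cfsg.Agent.ClassicalGeometry.HermOrtho
open Cfsg.Agent.GpUn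
open Cfsg.Agent.H173.RU

variable {F : Type*} [Field F] {q n l k : ℕ}

/-- the matrix over the algebraic closure -/
noncomputable def Mk (g : SU n F q) : Matrix (Fin n) (Fin n) (AlgebraicClosure F) :=
  (mat g).map (algebraMap F (AlgebraicClosure F))

theorem Mk_def (g : SU n F q) : Mk g = (mat g).map (algebraMap F (AlgebraicClosure F)) := rfl

theorem Mk_mul (g h : SU n F q) : Mk (g * h) = Mk g * Mk h := by
  rw [Mk_def, mat_mul, Matrix.map_mul]
  rfl

theorem Mk_one : Mk (1 : SU n F q) = 1 := by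
  rw [Mk_def, mat_one]
  exact Matrix.map_one _ (map_zero _) (map_one _)

theorem Mk_pow (g : SU n F q) (j : ℕ) : Mk (g ^ j) = Mk g ^ j := by
  induction j with
  | zero => rw [pow_zero, pow_zero, Mk_one]
  | succ j ih => rw [pow_succ, pow_succ, Mk_mul, ih]

theorem Mk_injective : Function.Injective (Mk : SU n F q → _) := by
  intro g h hgh
  exact mat_injective (Matrix.map_injective (algebraMap F (AlgebraicClosure F)).injective hgh)

theorem Mk_det (g : SU n F q) : (Mk g).det = 1 := by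
  have h1 := RingHom.map_det (algebraMap F (AlgebraicClosure F)) (mat g)
  rw [det_mat, map_one] at h1
  exact h1.symm

theorem Mk_mulVec (g : SU n F q) (v : Fin n → F) :
    Mk g *ᵥ (fun i => algebraMap F (AlgebraicClosure F) (v i)) =
      fun i => algebraMap F (AlgebraicClosure F) (act g v i) := by
  funext i
  exact (RingHom.map_mulVec (algebraMap F (AlgebraicClosure F)) (mat g) v i).symm

theorem Mk_inv_mulVec (g : SU n F q) (e : Fin n → AlgebraicClosure F) : Mk g⁻¹ *ᵥ (Mk g *ᵥ e) = e := by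
  rw [mulVec_mulVec, ← Mk_mul, inv_mul_cancel, Mk_one, one_mulVec]

theorem eig_ne_zero {g : SU n F q} {e : Fin n → AlgebraicClosure F} (he : e ≠ 0) {c : AlgebraicClosure F}
    (h : Mk g *ᵥ e = c • e) : c ≠ 0 := by
  rintro rfl
  rw [zero_smul] at h
  apply he
  rw [← Mk_inv_mulVec g e, h, mulVec_zero]

variable [Fintype F]

theorem exists_frob (hF : Fintype.card F = q ^ 2) :
    ∃ Fr : AlgebraicClosure F →+* AlgebraicClosure F, ∀ x, Fr x = x ^ q := by
  obtain ⟨p, f, hp, hch, hq, -⟩ := exists_prime_pow hF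
  have := Fact.mk hp
  have : CharP (AlgebraicClosure F) p := charP_of_injective_algebraMap (algebraMap F _).injective p
  refine ⟨iterateFrobenius (AlgebraicClosure F) p f, fun x => ?_⟩
  rw [iterateFrobenius_def, hq]

/-- **Duality.** -/
theorem dual (hF : Fintype.card F = q ^ 2) {g : SU n F q} {e : Fin n → AlgebraicClosure F}
    {c : AlgebraicClosure F} (hc : c ≠ 0) (h : Mk g *ᵥ e = c • e) :
    (Mk g)ᵀ *ᵥ (fun i => e i ^ q) = (c ^ q)⁻¹ • fun i => e i ^ q := by
  obtain ⟨Fr, hFr⟩ := exists_frob hF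
  have h1 : (Mk g)ᵀ * (Mk g).map Fr = 1 := by
    have h2 := (Cfsg.Agent.LieClassical.GUOrder.mul_map_eq_one_iff hF (mat g)).1 (herm_act g)
    have h3 := congrArg (fun M => M.map (algebraMap F (AlgebraicClosure F))) h2
    beta_reduce at h3
    rw [Matrix.map_mul, Matrix.map_one _ (map_zero _) (map_one _)] at h3
    rw [← h3, Mk_def]
    congr 1
    ext i j
    rw [Matrix.map_apply, Matrix.map_apply, Matrix.map_apply, Matrix.map_apply, hFr, ← map_pow]
    rfl
  have h2 : (Mk g).map Fr *ᵥ (fun i => e i ^ q) = c ^ q • fun i => e i ^ q := by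
    funext i
    have h3 := RingHom.map_mulVec Fr (Mk g) e i
    rw [h, Pi.smul_apply, smul_eq_mul, map_mul, hFr, hFr] at h3
    have h4 : (Fr ∘ e) = fun i => e i ^ q := by
      funext i
      exact hFr _
    rw [h4] at h3
    exact h3.symm
  have h3 : (Mk g)ᵀ *ᵥ ((Mk g).map Fr *ᵥ (fun i => e i ^ q)) = fun i => e i ^ q := by
    rw [mulVec_mulVec, h1, one_mulVec]
  rw [h2, mulVec_smul] at h3
  have hcq : c ^ q ≠ 0 := pow_ne_zero _ hc
  have h4 := congrArg (fun v => (c ^ q)⁻¹ • v) h3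
  beta_reduce at h4
  rw [smul_smul, inv_mul_cancel₀ hcq, one_smul] at h4
  exact h4

theorem pow_ne_zero_vec {K : Type*} [Field K] {e : Fin n → K} (he : e ≠ 0) : (fun i => e i ^ q) ≠ 0 := by
  intro h
  apply he
  funext i
  exact eq_zero_of_pow_eq_zero (congrFun h i)

/-- the eigenvalues are closed under `θ ↦ θ ^ (-q)` -/
theorem ev_step (hF : Fintype.card F = q ^ 2) {g : SU n F q} {θ : AlgebraicClosure F}
    (h : ∃ e : Fin n → AlgebraicClosure F, e ≠ 0 ∧ Mk g *ᵥ e = θ • e) :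
    ∃ e : Fin n → AlgebraicClosure F, e ≠ 0 ∧ Mk g *ᵥ e = (θ ^ q)⁻¹ • e := by
  obtain ⟨e, he, heθ⟩ := h
  have hθ := eig_ne_zero he heθ
  have h1 := dual hF hθ heθ
  have h2 : ∃ v : Fin n → AlgebraicClosure F, v ≠ 0 ∧
      ((Mk g)ᵀ - (θ ^ q)⁻¹ • (1 : Matrix (Fin n) (Fin n) (AlgebraicClosure F))) *ᵥ v = 0 := by
    refine ⟨fun i => e i ^ q, pow_ne_zero_vec he, ?_⟩
    rw [sub_mulVec, h1, smul_mulVec, one_mulVec, sub_self]
  rw [Matrix.exists_mulVec_eq_zero_iff] at h2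
  have h3 : (Mk g - (θ ^ q)⁻¹ • (1 : Matrix (Fin n) (Fin n) (AlgebraicClosure F))).det = 0 := by
    rw [← det_transpose, transpose_sub, transpose_smul, transpose_one]
    exact h2
  rw [← Matrix.exists_mulVec_eq_zero_iff] at h3
  obtain ⟨v, hv, hv1⟩ := h3
  rw [sub_mulVec, smul_mulVec, one_mulVec, sub_eq_zero] at hv1
  exact ⟨v, hv, hv1⟩

theorem zpow_step {K : Type*} [Field K] (θ : K) (m : ℕ) :
    ((θ ^ ((-(q : ℤ)) ^ m)) ^ q)⁻¹ = θ ^ ((-(q : ℤ)) ^ (m + 1)) := by
  rw [← zpow_natCast, ← _root_.zpow_mul, ← _root_.zpow_neg, pow_succ, mul_neg]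

theorem ev_iter (hF : Fintype.card F = q ^ 2) {g : SU n F q} {θ : AlgebraicClosure F}
    (h : ∃ e : Fin n → AlgebraicClosure F, e ≠ 0 ∧ Mk g *ᵥ e = θ • e) (m : ℕ) :
    ∃ e : Fin n → AlgebraicClosure F, e ≠ 0 ∧ Mk g *ᵥ e = (θ ^ ((-(q : ℤ)) ^ m)) • e := by
  induction m with
  | zero => simpa using h
  | succ m ih =>
    have h1 := ev_step hF ih
    rwa [zpow_step] at h1

/-- **The step for common eigenvectors.** -/
theorem Eig.step (hF : Fintype.card F = q ^ 2) {y : SU n F q} {μ : Fin n → AlgebraicClosure F}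
    {b : Fin n → (Fin n → AlgebraicClosure F)} (h : Eig (Mk y) μ b) (j : Fin n) :
    ∃ i, μ i = ((μ j) ^ q)⁻¹ ∧ ∀ g : SU n F q, g * y = y * g → ∀ c : AlgebraicClosure F, Mk g *ᵥ b j = c • b j →
      Mk g *ᵥ b i = (c ^ q)⁻¹ • b i := by
  have hdot : ∀ (g : SU n F q) (c : AlgebraicClosure F), Mk g *ᵥ b j = c • b j → ∀ i d, Mk g *ᵥ b i = d • b i →
      (fun t => b j t ^ q) ⬝ᵥ b i ≠ 0 → d = (c ^ q)⁻¹ := by
    intro g c hc i d hd h0
    have hc0 := eig_ne_zero (h.ne j) hc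
    have h1 := dual hF hc0 hc
    have h2 : (fun t => b j t ^ q) ⬝ᵥ (Mk g *ᵥ b i) = ((Mk g)ᵀ *ᵥ (fun t => b j t ^ q)) ⬝ᵥ b i := by
      rw [dotProduct_mulVec, ← mulVec_transpose]
    rw [hd, h1, dotProduct_smul, smul_dotProduct, smul_eq_mul, smul_eq_mul] at h2
    exact mul_right_cancel₀ h0 h2
  obtain ⟨i, hi⟩ := h.exists_dot (pow_ne_zero_vec (q := q) (h.ne j))
  refine ⟨i, hdot y _ (h.eig j) i _ (h.eig i) hi, fun g hg c hc => ?_⟩
  obtain ⟨d, hd⟩ := h.comm (G := Mk g) (by rw [← Mk_mul, hg, Mk_mul]) i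
  rw [hd, hdot g c hc i d hd hi]

theorem Eig.iter (hF : Fintype.card F = q ^ 2) {y : SU n F q} {μ : Fin n → AlgebraicClosure F}
    {b : Fin n → (Fin n → AlgebraicClosure F)} (h : Eig (Mk y) μ b) (j : Fin n) (m : ℕ) :
    ∃ i, μ i = (μ j) ^ ((-(q : ℤ)) ^ m) ∧ ∀ g : SU n F q, g * y = y * g → ∀ c : AlgebraicClosure F, Mk g *ᵥ b j = c • b j →
      Mk g *ᵥ b i = (c ^ ((-(q : ℤ)) ^ m)) • b i := by
  induction m with
  | zero => exact ⟨j, by simp, fun g _ c hc => by simpa using hc⟩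
  | succ m ih =>
    obtain ⟨i, hi, hg⟩ := ih
    obtain ⟨i', hi', hg'⟩ := h.step hF i
    refine ⟨i', by rw [hi', hi, zpow_step], fun g hgy c hc => ?_⟩
    rw [hg' g hgy _ (hg g hgy c hc), zpow_step]

/-! ### elements of type `k` -/

/-- powers of an element of order `l` -/
def IsOrd (l : ℕ) (θ : AlgebraicClosure F) : Prop := ∀ a : ℤ, θ ^ a = 1 ↔ (l : ℤ) ∣ a

omit [Fintype F] in
theorem isOrd_of {θ : AlgebraicClosure F} (hl : l.Prime) (h1 : θ ≠ 1) (h2 : θ ^ l = 1) : IsOrd l θ := by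
  have hθ : θ ≠ 0 := by
    rintro rfl
    rw [zero_pow hl.ne_zero] at h2
    exact zero_ne_one h2
  have hu : orderOf (Units.mk0 θ hθ) = l := by
    have := Fact.mk hl
    apply orderOf_eq_prime
    · ext
      simpa using h2
    · intro h
      apply h1
      simpa using congrArg Units.val h
  intro a
  rw [← hu, orderOf_dvd_iff_zpow_eq_one, Units.ext_iff]
  simp

omit [Fintype F] in
theorem IsOrd.pow_eq {θ : AlgebraicClosure F} (h : IsOrd l θ) (hθ : θ ≠ 0) (a b : ℤ) : θ ^ a = θ ^ b ↔ (a : ZMod l) = (b : ZMod l) := by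
  rw [← sub_eq_zero (a := (a : ZMod l)), ← Int.cast_sub, ZMod.intCast_zmod_eq_zero_iff_dvd, ← h,
    zpow_sub₀ hθ, div_eq_one_iff_eq (zpow_ne_zero _ hθ)]

omit [Fintype F] in
theorem IsOrd.ne_zero {θ : AlgebraicClosure F} (h : IsOrd l θ) (hl : l.Prime) : θ ≠ 0 := by
  rintro rfl
  have h1 := (h l).2 dvd_rfl
  rw [zpow_natCast, zero_pow hl.ne_zero] at h1
  exact zero_ne_one h1

omit [Fintype F] in
theorem cast_pow (q l m : ℕ) : (((-(q : ℤ)) ^ m : ℤ) : ZMod l) = (-(q : ZMod l)) ^ m := by push_cast; rfl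

omit [Fintype F] in
/-- the eigenvalues `θ ^ ((-q) ^ i)`, `i < k`, are distinct -/
theorem IsOrd.inj {θ : AlgebraicClosure F} (h : IsOrd l θ) (ht : Ty q l k) {i j : ℕ} (hi : i < k) (hj : j < k)
    (hij : θ ^ ((-(q : ℤ)) ^ i) = θ ^ ((-(q : ℤ)) ^ j)) : i = j := by
  rw [h.pow_eq (h.ne_zero ht.prime), cast_pow, cast_pow] at hij
  exact pow_injOn_Iio_orderOf (by rw [ht.ord]; exact hi) (by rw [ht.ord]; exact hj) hij

omit [Fintype F] in
theorem IsOrd.ne_one {θ : AlgebraicClosure F} (h : IsOrd l θ) (ht : Ty q l k) (i : ℕ) :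
    θ ^ ((-(q : ℤ)) ^ i) ≠ 1 := by
  intro h1
  rw [h] at h1
  have := Fact.mk ht.prime
  have h2 := (ZMod.intCast_zmod_eq_zero_iff_dvd _ l).2 h1
  rw [cast_pow] at h2
  have h3 : (-(q : ZMod l)) = 0 := eq_zero_of_pow_eq_zero h2
  have h4 := ht.ord
  rw [h3] at h4
  have h5 := pow_orderOf_eq_one (0 : ZMod l)
  rw [h4, zero_pow ht.pos.ne'] at h5
  exact zero_ne_one h5

/-- the eigenvalues -/
noncomputable def evs (q k : ℕ) (θ : AlgebraicClosure F) (n : ℕ) : Fin n → AlgebraicClosure F :=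
  fun i => if i.val < k then θ ^ ((-(q : ℤ)) ^ i.val) else 1

/-- an element of type `n - 1` has a fixed vector -/
theorem fx_ne_bot (h : Ty q l k) (hF : Fintype.card F = q ^ 2) (hk : k + 1 = n) (hk3 : 3 ≤ k) {y : SU n F q}
    (hy : y ^ l = 1) : ∃ v ∈ fx y, v ≠ 0 := by
  by_contra hcon
  push Not at hcon
  have h1 : fx y = ⊥ := by
    rw [Submodule.eq_bot_iff]
    exact hcon
  have h2 := h.dvd_two_mul hF hy ⊤ (fun _ _ => Submodule.mem_top) (by rw [h1, inf_bot_eq])
  rw [finrank_top, finrank_fin_fun, ← hk] at h2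
  have h3 : k ∣ 2 := by
    have h4 : 2 * (k + 1) = k * 2 + 2 := by ring
    rw [h4] at h2
    exact (Nat.dvd_add_right (dvd_mul_right k 2)).1 h2
  have := Nat.le_of_dvd (by norm_num) h3
  omega

/-- **The eigenvalues of an element of type `k`.** -/
theorem exists_Eig (h : Ty q l k) (hF : Fintype.card F = q ^ 2) (hk : k = n ∨ k + 1 = n) (hk3 : 3 ≤ k)
    {y : SU n F q} (hy : y ^ l = 1) (hy1 : y ≠ 1) : ∃ θ : AlgebraicClosure F, IsOrd l θ ∧
      ∃ b, Eig (Mk y) (evs q k θ n) b := by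
  have hl0 : (l : AlgebraicClosure F) ≠ 0 := by
    have h1 := natCast_ne_zero (F := F) hF h.prime h.not_dvd
    intro h0
    apply h1
    apply (algebraMap F (AlgebraicClosure F)).injective
    rw [map_natCast, h0, map_zero]
  obtain ⟨θ, hθ1, hθl, hev⟩ := exists_eig_ne_one (Y := Mk y) hl0 (by rw [← Mk_pow, hy, Mk_one])
    (fun h0 => hy1 (Mk_injective (h0.trans Mk_one.symm)))
  have hord := isOrd_of h.prime hθ1 hθl
  refine ⟨θ, hord, ?_⟩
  have key : ∀ i : Fin n, ∃ e : Fin n → AlgebraicClosure F, e ≠ 0 ∧ Mk y *ᵥ e = evs q k θ n i • e := by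
    intro i
    by_cases hi : i.val < k
    · rw [evs, if_pos hi]
      exact ev_iter hF hev i.val
    · rw [evs, if_neg hi]
      have hk' : k + 1 = n := by
        rcases hk with hk | hk
        · have := i.isLt; omega
        · exact hk
      obtain ⟨v, hv, hv0⟩ := fx_ne_bot h hF hk' hk3 hy
      refine ⟨fun i => algebraMap F (AlgebraicClosure F) (v i), ?_, ?_⟩
      · intro h0
        apply hv0
        funext i
        apply (algebraMap F (AlgebraicClosure F)).injective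
        rw [congrFun h0 i]
        simp
      · rw [Mk_mulVec, mem_fx.1 hv, one_smul]
  choose b hb using key
  refine ⟨b, fun i => (hb i).1, fun i => (hb i).2, ?_⟩
  intro i j hij
  rw [evs, evs] at hij
  apply Fin.ext
  by_cases hi : i.val < k
  · by_cases hj : j.val < k
    · rw [if_pos hi, if_pos hj] at hij
      exact hord.inj h hi hj hij
    · rw [if_pos hi, if_neg hj] at hij
      exact absurd hij (hord.ne_one h _)
  · by_cases hj : j.val < k
    · rw [if_neg hi, if_pos hj] at hij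
      exact absurd hij.symm (hord.ne_one h _)
    · have := i.isLt
      have := j.isLt
      omega

omit [Fintype F] in
/-- the eigenvalues -/
theorem eval_cases {θ : AlgebraicClosure F} (i : Fin n) :
    (∃ m, evs q k θ n i = θ ^ ((-(q : ℤ)) ^ m)) ∨ evs q k θ n i = 1 := by
  rw [evs]
  by_cases hi : i.val < k
  · rw [if_pos hi]
    exact Or.inl ⟨_, rfl⟩
  · rw [if_neg hi]
    exact Or.inr rfl

/-- **The order of the elements normalising `⟨y⟩` modulo the centraliser.** -/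
theorem pow_comm_of_conj (h : Ty q l k) (hF : Fintype.card F = q ^ 2) (hk : k = n ∨ k + 1 = n) (hk3 : 3 ≤ k)
    {y g : SU n F q} (hy : y ^ l = 1) (hy1 : y ≠ 1) {a : ℕ} (hg : g * y * g⁻¹ = y ^ a) :
    g ^ k * y = y * g ^ k := by
  obtain ⟨θ, hord, b, hE⟩ := exists_Eig h hF hk hk3 hy hy1
  have hθ := hord.ne_zero h.prime
  have hn : 0 < n := by omega
  have := Fact.mk h.prime
  have h0 : evs q k θ n ⟨0, hn⟩ = θ := by
    rw [evs, if_pos (by show 0 < k; omega)]
    simp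
  have hb0 : Mk y *ᵥ b ⟨0, hn⟩ = θ • b ⟨0, hn⟩ := by rw [hE.eig, h0]
  have hpow : ∀ j : ℕ, Mk (y ^ j) *ᵥ b ⟨0, hn⟩ = θ ^ j • b ⟨0, hn⟩ := by
    intro j
    induction j with
    | zero => rw [pow_zero, Mk_one, one_mulVec, pow_zero, one_smul]
    | succ j ih => rw [pow_succ, Mk_mul, ← mulVec_mulVec, hb0, mulVec_smul, ih, smul_smul, pow_succ']
  -- `θ ^ a` is an eigenvalue of `y`
  have h1 : Mk y *ᵥ (Mk g⁻¹ *ᵥ b ⟨0, hn⟩) = θ ^ a • (Mk g⁻¹ *ᵥ b ⟨0, hn⟩) := by
    have h2 : y * g⁻¹ = g⁻¹ * y ^ a := by rw [← hg]; group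
    rw [mulVec_mulVec, ← Mk_mul, h2, Mk_mul, ← mulVec_mulVec, hpow, mulVec_smul]
  have h2 : Mk g⁻¹ *ᵥ b ⟨0, hn⟩ ≠ 0 := by
    intro h3
    apply hE.ne ⟨0, hn⟩
    have h4 := Mk_inv_mulVec g⁻¹ (b ⟨0, hn⟩)
    rw [h3, mulVec_zero] at h4
    exact h4.symm
  obtain ⟨i, hi, -⟩ := hE.exists_eigenvalue h2 h1
  have hal : ¬ l ∣ a := by
    rintro ⟨c, hc⟩
    rw [hc, pow_mul, hy, one_pow, mul_inv_eq_one] at hg
    exact hy1 (mul_eq_left.1 hg)
  have h3 : ∃ m : ℕ, ((a : ℤ) : ZMod l) = (((-(q : ℤ)) ^ m : ℤ) : ZMod l) := by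
    rcases eval_cases (q := q) (k := k) (θ := θ) i with ⟨m, hm⟩ | hm
    · refine ⟨m, ?_⟩
      rw [← hord.pow_eq hθ, zpow_natCast, hi, hm]
    · exfalso
      rw [hm, ← zpow_natCast, hord] at hi
      exact hal (Int.natCast_dvd_natCast.1 hi)
  obtain ⟨m, hm⟩ := h3
  have h4 : (a : ZMod l) ^ k = 1 := by
    rw [cast_pow] at hm
    push_cast at hm
    rw [hm, ← pow_mul, mul_comm, pow_mul, ← h.ord, pow_orderOf_eq_one, one_pow]
  have h5 : ∀ j : ℕ, g ^ j * y * (g ^ j)⁻¹ = y ^ a ^ j := by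
    intro j
    induction j with
    | zero => simp
    | succ j ih =>
      have h6 : g ^ (j + 1) * y * (g ^ (j + 1))⁻¹ = g * (g ^ j * y * (g ^ j)⁻¹) * g⁻¹ := by
        rw [pow_succ']
        group
      rw [h6, ih, pow_succ a j, mul_comm (a ^ j) a, pow_mul, ← hg, ← conj_pow]
  have h6 : y ^ a ^ k = y := by
    have h7 : a ^ k ≡ 1 [MOD l] := by
      rw [← ZMod.natCast_eq_natCast_iff]
      push_cast
      exact h4
    calc y ^ a ^ k = y ^ 1 := pow_eq_pow_iff_modEq.2 (h7.of_dvd (orderOf_dvd_of_pow_eq_one hy))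
      _ = y := pow_one y
  have h7 := h5 k
  rw [h6, mul_inv_eq_iff_eq_mul] at h7
  exact h7

/-- the order of the torus -/
def tor (q k : ℕ) : ℕ := if Even k then q ^ k - 1 else q ^ k + 1

omit [Fintype F] in
theorem mem_cent {y g : SU n F q} : g ∈ centralizer ({y} : Set (SU n F q)) ↔ g * y = y * g :=
  mem_centralizer_singleton_iff

/-- **The centraliser of an element of type `n` or `n - 1`.** -/
theorem cent_cyclic (h : Ty q l k) (hF : Fintype.card F = q ^ 2) (hk : k = n ∨ k + 1 = n) (hk3 : 3 ≤ k)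
    {y : SU n F q} (hy : y ^ l = 1) (hy1 : y ≠ 1) :
    IsCyclic (centralizer ({y} : Set (SU n F q))) ∧ Nat.card (centralizer ({y} : Set (SU n F q))) ∣ tor q k := by
  obtain ⟨θ, hord, b, hE⟩ := exists_Eig h hF hk hk3 hy hy1
  have hθ := hord.ne_zero h.prime
  have hn : 0 < n := by omega
  have hq := two_le hF
  have := Fact.mk h.prime
  obtain ⟨i₀, hi₀⟩ : ∃ i₀ : Fin n, i₀ = ⟨0, hn⟩ := ⟨_, rfl⟩
  have h0 : evs q k θ n i₀ = θ := by
    rw [evs, hi₀, if_pos (by show 0 < k; omega)]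
    simp
  have hcomm : ∀ g : centralizer ({y} : Set (SU n F q)), ∃ c : AlgebraicClosure F,
      Mk (g : SU n F q) *ᵥ b i₀ = c • b i₀ := fun g =>
    hE.comm (by rw [← Mk_mul, mem_cent.1 g.2, Mk_mul]) i₀
  choose φ hφ using hcomm
  have huniq : ∀ c d : AlgebraicClosure F, c • b i₀ = d • b i₀ → c = d := by
    intro c d hcd
    have h1 : (c - d) • b i₀ = 0 := by rw [sub_smul, hcd, sub_self]
    rcases smul_eq_zero.1 h1 with h2 | h2
    · exact sub_eq_zero.1 h2
    · exact absurd h2 (hE.ne i₀)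
  let Φ : centralizer ({y} : Set (SU n F q)) →* AlgebraicClosure F :=
    { toFun := φ
      map_one' := by
        apply huniq
        rw [← hφ, Subgroup.coe_one, Mk_one, one_mulVec, one_smul]
      map_mul' := by
        intro g g'
        apply huniq
        rw [← hφ, Subgroup.coe_mul, Mk_mul, ← mulVec_mulVec, hφ, mulVec_smul, hφ, smul_smul, mul_comm] }
  have hΦ : ∀ g, Φ g = φ g := fun _ => rfl
  have hinj : Function.Injective Φ := by
    rw [injective_iff_map_eq_one']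
    intro g
    refine ⟨fun hg => ?_, fun hg => by rw [hg, map_one]⟩
    have hg1 : ∀ i : Fin n, i.val < k → Mk (g : SU n F q) *ᵥ b i = b i := by
      intro i hi
      obtain ⟨i', hi', hgi⟩ := hE.iter hF i₀ i.val
      rw [h0] at hi'
      have h1 : evs q k θ n i = θ ^ ((-(q : ℤ)) ^ i.val) := by rw [evs, if_pos hi]
      have h2 : i' = i := hE.inj (hi'.trans h1.symm)
      have h3 := hgi g (mem_cent.1 g.2) 1 (by rw [hφ, ← hΦ, hg])
      rw [h2, _root_.one_zpow, one_smul] at h3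
      exact h3
    apply Subtype.ext
    apply Mk_injective
    rw [Subgroup.coe_one, Mk_one]
    apply hE.ext
    intro i
    rw [one_mulVec]
    rcases hk with hk | hk
    · exact hg1 i (by rw [hk]; exact i.isLt)
    · subst hk
      by_cases hi : i.val < k
      · exact hg1 i hi
      · have hil : i = Fin.last k := by
          apply Fin.ext
          have := i.isLt
          rw [Fin.val_last]
          omega
        subst hil
        obtain ⟨c, hc⟩ := hE.comm (G := Mk (g : SU (k + 1) F q)) (by rw [← Mk_mul, mem_cent.1 g.2, Mk_mul]) (Fin.last k)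
        have h1 := hE.det_eq (G := Mk (g : SU (k + 1) F q)) (χ := Fin.snoc (fun _ => 1) c) (by
          intro j
          refine Fin.lastCases ?_ ?_ j
          · rw [Fin.snoc_last, hc]
          · intro j
            rw [Fin.snoc_castSucc, one_smul]
            exact hg1 _ j.isLt)
        rw [Mk_det, Fin.prod_univ_castSucc, Fin.snoc_last] at h1
        simp only [Fin.snoc_castSucc] at h1
        rw [Finset.prod_const_one, one_mul] at h1
        rw [hc, ← h1, one_smul]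
  have hcyc : IsCyclic (centralizer ({y} : Set (SU n F q))) := isCyclic_of_injective_ringHom Φ hinj
  refine ⟨hcyc, ?_⟩
  obtain ⟨g, hg⟩ := hcyc.exists_ofOrder_eq_natCard
  rw [← hg]
  apply orderOf_dvd_of_pow_eq_one
  apply hinj
  rw [map_pow, map_one]
  have hg0 : Φ g ≠ 0 := eig_ne_zero (hE.ne i₀) (hφ g)
  obtain ⟨i', hi', hgi⟩ := hE.iter hF i₀ k
  rw [h0] at hi'
  have h1 : θ ^ ((-(q : ℤ)) ^ k) = θ := by
    have h2 := (hord.pow_eq hθ ((-(q : ℤ)) ^ k) 1).2 (by
      rw [cast_pow, ← h.ord, pow_orderOf_eq_one, Int.cast_one])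
    rw [h2, zpow_one]
  have h2 : i' = i₀ := hE.inj (hi'.trans (h1.trans h0.symm))
  have h3 := hgi g (mem_cent.1 g.2) (Φ g) (hφ g)
  rw [h2, hφ] at h3
  have h4 : Φ g = (Φ g) ^ ((-(q : ℤ)) ^ k) := huniq _ _ h3
  rw [tor]
  by_cases he : Even k
  · rw [if_pos he]
    rw [he.neg_pow] at h4
    have h5 : Φ g ^ (q ^ k) = Φ g := by
      have h6 : ((q : ℤ) ^ k) = ((q ^ k : ℕ) : ℤ) := by push_cast; rfl
      rw [h6, zpow_natCast] at h4
      exact h4.symm
    have h7 : 1 ≤ q ^ k := Nat.one_le_pow _ _ (by omega)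
    have h8 : Φ g ^ (q ^ k - 1) * Φ g = 1 * Φ g := by
      rw [← pow_succ, Nat.sub_add_cancel h7, one_mul, h5]
    exact mul_right_cancel₀ hg0 h8
  · rw [if_neg he]
    rw [(Nat.not_even_iff_odd.1 he).neg_pow] at h4
    have h6 : (-(q : ℤ) ^ k) = -((q ^ k : ℕ) : ℤ) := by push_cast; rfl
    rw [h6, _root_.zpow_neg, zpow_natCast] at h4
    rw [pow_succ]
    nth_rewrite 2 [h4]
    exact mul_inv_cancel₀ (pow_ne_zero _ hg0)

end Cfsg.Agent.H715.PDU
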