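import Cfsg.Agent.H715.PDU.Bound
import Cfsg.Agent.H715.PDU.Cent

/-!
# Row PSU of S4246: the elements of `PSU n F q` of type `n` and `n - 1`
-/

set_option autoImplicit false

namespace Cfsg.Agent.H715.PDU

open Cfsg Module Matrix Subgroup
open Cfsg.Agent.LieClassical.HermBasic Cfsg.Agent.LieClassical.HermSiegel
open Cfsg.Agent.ClassicalGeometry.HermOrtho
open Cfsg.Agent.ClassicalGeometry.PSUAutBasic (pr pr_surjective pr_eq_one_iff exists_center_mul)
open Cfsg.Agent.ClassicalGeometry.PSUAutCount (gm gm_mul gm_one gm_mul_inv gm_inv_mul gm_inj herm_gm gm_inv_mulVec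
  gm_mulVec_inv semiConj toAut toAut_pr act_semiConj eq_of_toAut_eq sc gm_sc_mul toAut_sc_mul)
open Cfsg.Agent.CpAutU.Desc (toAut_mul toAut_one)
open Cfsg.Agent.GpUn
open Cfsg.Agent.H173.RU
open Cfsg.Agent.H160.PD

variable {F : Type*} [Field F] [Fintype F] {q n l k : ℕ}

/-! ### numbers -/

theorem dvd_tor (h : Ty q l k) (hq : 1 ≤ q) {m : ℕ} (hm : 1 ≤ m) : l ∣ tor q m ↔ k ∣ m := by
  have h1 := h.dvd_U hq (m - 1)
  rw [Nat.sub_add_cancel hm] at h1
  rw [← h1, tor]
  by_cases he : Even m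
  · have : ¬ Even (m - 1) := by
      rw [Nat.not_even_iff_odd]
      obtain ⟨a, ha⟩ := he
      exact ⟨a - 1, by omega⟩
    rw [if_pos he, if_neg this]
  · have : Even (m - 1) := by
      obtain ⟨a, ha⟩ := Nat.not_even_iff_odd.1 he
      exact ⟨a, by omega⟩
    rw [if_neg he, if_pos this]

theorem tor_pos (hq : 2 ≤ q) {m : ℕ} (hm : 1 ≤ m) : 0 < tor q m := by
  rw [tor]
  split_ifs
  · have : 1 < q ^ m := Nat.one_lt_pow (by omega) (by omega)
    omega
  · omega

theorem not_dvd_tor {p f : ℕ} (hp : p.Prime) (hf : f ≠ 0) (hq : q = p ^ f) {m : ℕ} (hm : 1 ≤ m) : ¬ p ∣ tor q m := by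
  have hpq : p ∣ q := by rw [hq]; exact dvd_pow_self p hf
  have h1 : p ∣ q ^ m := dvd_pow hpq (by omega)
  have hq1 : 1 ≤ q := by rw [hq]; exact Nat.one_le_pow _ _ hp.pos
  intro hi
  rw [tor] at hi
  by_cases he : Even m
  · rw [if_pos he] at hi
    have h2 : 1 ≤ q ^ m := Nat.one_le_pow _ _ hq1
    have h3 := (Nat.dvd_sub_iff_right h2 h1).1 hi
    exact hp.one_lt.ne' (Nat.dvd_one.1 h3)
  · rw [if_neg he] at hi
    exact hp.one_lt.ne' (Nat.dvd_one.1 ((Nat.dvd_add_right h1).1 hi))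

/-! ### lifts -/

/-- a lift of an element of order `l` -/
theorem exists_lift (h : Ty q l k) (hF : Fintype.card F = q ^ 2) (hn : 3 ≤ n) (hk : 2 ≤ k) {x : PSU n F q}
    (hx : orderOf x = l) : ∃ y : SU n F q, y ^ l = 1 ∧ y ≠ 1 ∧ pr n F q y = x := by
  have hq := two_le hF
  obtain ⟨y, hy, hyx⟩ := exists_lift_elt hF hn (h.coprime_succ (by omega) hk) (z := x) (by
    rw [← hx]; exact pow_orderOf_eq_one x)
  refine ⟨y, hy, ?_, hyx⟩
  rintro rfl
  rw [map_one] at hyx
  rw [← hyx, orderOf_one] at hx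
  exact h.prime.one_lt.ne hx

theorem pr_ne_one (h : Ty q l k) (hF : Fintype.card F = q ^ 2) (hn : 3 ≤ n) (hk : 2 ≤ k) {y : SU n F q}
    (hy : y ^ l = 1) (hy1 : y ≠ 1) : pr n F q y ≠ 1 := by
  have hq := two_le hF
  intro h0
  apply hy1
  exact eq_of_pr_eq hF hn (h.coprime_succ (by omega) hk) hy (one_pow _) (by rw [h0, map_one])

/-- the preimage of the centraliser -/
theorem comap_cent (h : Ty q l k) (hF : Fintype.card F = q ^ 2) (hn : 3 ≤ n) (hk : 2 ≤ k) {y : SU n F q}
    (hy : y ^ l = 1) : (centralizer ({pr n F q y} : Set (PSU n F q))).comap (pr n F q) =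
      centralizer ({y} : Set (SU n F q)) := by
  have hq := two_le hF
  ext g
  rw [mem_comap, mem_centralizer_singleton_iff, mem_cent]
  constructor
  · intro hg
    rw [← map_mul, ← map_mul] at hg
    have h1 : pr n F q (g * y * g⁻¹) = pr n F q y := by
      rw [map_mul, hg, ← map_mul, mul_inv_cancel_right]
    have h2 := eq_of_pr_eq hF hn (h.coprime_succ (by omega) hk) (y := g * y * g⁻¹) (y' := y)
      (by rw [conj_pow, hy, mul_one, mul_inv_cancel]) hy h1
    rwa [mul_inv_eq_iff_eq_mul] at h2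
  · intro hg
    rw [← map_mul, ← map_mul, hg]

theorem card_comap_pr (hF : Fintype.card F = q ^ 2) (hn : 3 ≤ n) (C : Subgroup (PSU n F q)) :
    Nat.card (C.comap (pr n F q)) = Nat.card C * Nat.gcd n (q + 1) := by
  have h1 := Subgroup.card_mul_index (C.comap (pr n F q))
  have h2 := Subgroup.card_mul_index C
  rw [index_comap_of_surjective C pr_surjective, card_SU_eq hF hn, ← h2] at h1
  have h3 : 0 < C.index := Nat.pos_of_ne_zero C.index_ne_zero_of_finite
  apply Nat.eq_of_mul_eq_mul_right h3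
  rw [h1]
  ring

variable (h : Ty q l k) (hF : Fintype.card F = q ^ 2) (hn : 3 ≤ n) (hk : k = n ∨ k + 1 = n) (hk3 : 3 ≤ k)

include h hF hn hk hk3

theorem card_cent_mul {x : PSU n F q} (hx : orderOf x = l) :
    Nat.card (centralizer ({x} : Set (PSU n F q))) * Nat.gcd n (q + 1) ∣ tor q k := by
  obtain ⟨y, hy, hy1, rfl⟩ := exists_lift h hF hn (by omega) hx
  rw [← card_comap_pr hF hn, comap_cent h hF hn (by omega) hy]
  exact (cent_cyclic h hF hk hk3 hy hy1).2

/-- the `t`-part of the centraliser -/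
theorem v_cent {x : PSU n F q} (hx : orderOf x = l) (t : ℕ) :
    v t (centralizer ({x} : Set (PSU n F q))) + (Nat.gcd n (q + 1)).factorization t ≤ (tor q k).factorization t := by
  have hq := two_le hF
  have h0 : Nat.gcd n (q + 1) ≠ 0 := (Nat.gcd_pos_of_pos_left _ (by omega)).ne'
  have h1 := (Nat.factorization_le_iff_dvd (mul_ne_zero Nat.card_pos.ne' h0) (tor_pos hq (by omega)).ne').2
    (card_cent_mul h hF hn hk hk3 hx) t
  rwa [Nat.factorization_mul Nat.card_pos.ne' h0, Finsupp.add_apply] at h1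

theorem v_cent_p {p f : ℕ} (hp : p.Prime) (hf : f ≠ 0) (hq : q = p ^ f) {x : PSU n F q} (hx : orderOf x = l) :
    v p (centralizer ({x} : Set (PSU n F q))) = 0 := by
  have h1 := v_cent h hF hn hk hk3 hx p
  rw [Nat.factorization_eq_zero_of_not_dvd (not_dvd_tor hp hf hq (by omega))] at h1
  omega

theorem cyclic_cent {x : PSU n F q} (hx : orderOf x = l) : IsCyclic ↥(centralizer ({x} : Set (PSU n F q))) := by
  obtain ⟨y, hy, hy1, rfl⟩ := exists_lift h hF hn (by omega) hx
  have h1 := (cent_cyclic h hF hk hk3 hy hy1).1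
  have h2 : (centralizer ({y} : Set (SU n F q))).map (pr n F q) = centralizer ({pr n F q y} : Set (PSU n F q)) := by
    rw [← comap_cent h hF hn (by omega) hy, map_comap_eq_self_of_surjective pr_surjective]
  rw [← h2]
  exact isCyclic_of_surjective ((pr n F q).subgroupMap _) ((pr n F q).subgroupMap_surjective _)

theorem uniq : Uniq (PSU n F q) l := uniq_of_cyclic fun _ hx => cyclic_cent h hF hn hk hk3 hx

/-- **The normaliser.** -/
theorem card_norm {x : PSU n F q} (hx : orderOf x = l) :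
    Nat.card ↥(normalizer ((zpowers x : Subgroup (PSU n F q)) : Set (PSU n F q))) ∣ tor q k * k := by
  have hq := two_le hF
  refine (card_normalizer_dvd (n := k) h.prime hx ?_).trans
    (Nat.mul_dvd_mul_right ((dvd_mul_right _ _).trans (card_cent_mul h hF hn hk hk3 hx)) k)
  intro z hz
  obtain ⟨y, hy, hy1, rfl⟩ := exists_lift h hF hn (by omega) hx
  obtain ⟨g, rfl⟩ := pr_surjective z
  have h1 : pr n F q g * pr n F q y * (pr n F q g)⁻¹ ∈ zpowers (pr n F q y) :=
    (mem_normalizer_iff.1 hz _).1 (mem_zpowers _)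
  rw [← mem_powers_iff_mem_zpowers] at h1
  obtain ⟨a, ha⟩ := h1
  have h2 : pr n F q (g * y * g⁻¹) = pr n F q (y ^ a) := by
    rw [map_mul, map_mul, map_inv, map_pow, ← ha]
  have h3 := eq_of_pr_eq hF hn (h.coprime_succ (by omega) (by omega)) (y := g * y * g⁻¹) (y' := y ^ a)
    (by rw [conj_pow, hy, mul_one, mul_inv_cancel]) (by rw [← pow_mul, mul_comm, pow_mul, hy, one_pow]) h2
  have h4 := pow_comm_of_conj h hF hk hk3 hy hy1 h3
  rw [mem_centralizer_singleton_iff, ← map_pow, ← map_mul, ← map_mul, h4]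

theorem v_norm_p {p f : ℕ} (hp : p.Prime) (hf : f ≠ 0) (hq : q = p ^ f) {x : PSU n F q} (hx : orderOf x = l) :
    v p (normalizer ((zpowers x : Subgroup (PSU n F q)) : Set (PSU n F q))) ≤ k.factorization p := by
  have hq2 := two_le hF
  have h0 := (tor_pos hq2 (m := k) (by omega)).ne'
  have h1 := (Nat.factorization_le_iff_dvd Nat.card_pos.ne' (mul_ne_zero h0 (by omega))).2
    (card_norm h hF hn hk hk3 hx) p
  rw [Nat.factorization_mul h0 (by omega), Finsupp.add_apply,
    Nat.factorization_eq_zero_of_not_dvd (not_dvd_tor hp hf hq (by omega)), zero_add] at h1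
  exact h1

theorem not_dvd_norm {r : ℕ} {k' : ℕ} (h' : Ty q r k') (hkk : ¬ k' ∣ k) (hr : n < r) {x : PSU n F q}
    (hx : orderOf x = l) : ¬ r ∣ Nat.card ↥(normalizer ((zpowers x : Subgroup (PSU n F q)) : Set (PSU n F q))) := by
  have hq2 := two_le hF
  intro hd
  rcases (Nat.Prime.dvd_mul h'.prime).1 (hd.trans (card_norm h hF hn hk hk3 hx)) with h1 | h1
  · exact hkk ((dvd_tor h' (by omega) (by omega)).1 h1)
  · have := Nat.le_of_dvd (by omega) h1
    omega

end Cfsg.Agent.H715.PDU
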