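import Cfsg.Agent.H715.PDU.Semi
import Cfsg.Agent.H173.RU.Main
import Cfsg.Agent.H160.PD.Tools
import Cfsg.Agent.S0815

/-!
# Row PSU of S4246: orders, `|Out|`, and the `p`-part of the fixed points of automorphisms
-/

set_option autoImplicit false

namespace Cfsg.Agent.H715.PDU

open Cfsg Module Matrix Subgroup
open Cfsg.Agent.LieClassical.HermBasic Cfsg.Agent.LieClassical.HermSiegel
open Cfsg.Agent.ClassicalGeometry.HermOrtho
open Cfsg.Agent.ClassicalGeometry.PSUAutBasic (pr pr_surjective pr_eq_one_iff exists_center_mul)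
open Cfsg.Agent.ClassicalGeometry.PSUAutCount (gm gm_mul gm_one gm_mul_inv gm_inv_mul gm_inj herm_gm gm_inv_mulVec
  gm_mulVec_inv semiConj toAut toAut_pr act_semiConj eq_of_toAut_eq sc gm_sc_mul toAut_sc_mul)
open Cfsg.Agent.CpAutU.Desc (toAut_mul toAut_one)
open Cfsg.Agent.CpAut.Psl (fixf)
open Cfsg.Agent.GpUn
open Cfsg.Agent.H173.RU
open Cfsg.Agent.H160.PD

variable {F : Type*} [Field F] [Fintype F] {q n : ℕ}

/-! ### orders -/

theorem v_SU (hF : Fintype.card F = q ^ 2) (hn : 1 ≤ n) {p f : ℕ} (hp : p.Prime) (hf : f ≠ 0) (hq : q = p ^ f) :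
    v p (SU n F q) = f * (n * (n - 1) / 2) := by
  have hq2 := two_le hF
  have h := Cfsg.Agent.S0278.result hF n hn
  have hpq : p ∣ q := by rw [hq]; exact dvd_pow_self p hf
  have h0 : ∀ i, ¬ p ∣ (if Even i then q ^ (i + 1) + 1 else q ^ (i + 1) - 1) := by
    intro i hi
    have h1 : p ∣ q ^ (i + 1) := dvd_pow hpq (by omega)
    by_cases he : Even i
    · rw [if_pos he] at hi
      exact hp.one_lt.ne' (Nat.dvd_one.1 ((Nat.dvd_add_right h1).1 hi))
    · rw [if_neg he] at hi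
      have h2 : 1 ≤ q ^ (i + 1) := Nat.one_le_pow _ _ (by omega)
      have h3 := (Nat.dvd_sub_iff_right h2 h1).1 hi
      exact hp.one_lt.ne' (Nat.dvd_one.1 h3)
  have hprod : ¬ p ∣ ∏ i ∈ Finset.range n, (if Even i then q ^ (i + 1) + 1 else q ^ (i + 1) - 1) := by
    intro h1
    obtain ⟨i, -, hi⟩ := (Prime.dvd_finsetProd_iff hp.prime _).1 h1
    exact h0 i hi
  have hq1 : ¬ p ∣ q + 1 := fun h1 => hp.one_lt.ne' (Nat.dvd_one.1 ((Nat.dvd_add_right hpq).1 h1))
  have hp0 : ∏ i ∈ Finset.range n, (if Even i then q ^ (i + 1) + 1 else q ^ (i + 1) - 1) ≠ 0 := by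
    intro h1
    exact hprod (h1 ▸ dvd_zero p)
  have h1 := congrArg (fun m => Nat.factorization m p) h
  beta_reduce at h1
  rw [Nat.factorization_mul (by omega) Nat.card_pos.ne', Nat.factorization_mul (pow_ne_zero _ (by omega)) hp0,
    Finsupp.add_apply, Finsupp.add_apply, Nat.factorization_eq_zero_of_not_dvd hq1,
    Nat.factorization_eq_zero_of_not_dvd hprod, hq, ← pow_mul, hp.factorization_pow, Finsupp.single_eq_same] at h1
  rw [v, hq]
  omega

theorem card_SU_eq (hF : Fintype.card F = q ^ 2) (hn : 3 ≤ n) :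
    Nat.card (SU n F q) = Nat.card (PSU n F q) * Nat.gcd n (q + 1) := by
  rw [← Cfsg.Agent.S0279.result hF n hn]
  exact Subgroup.card_eq_card_quotient_mul_card_subgroup _

theorem finite_PSU : Finite (PSU n F q) := inferInstance

theorem v_add (hF : Fintype.card F = q ^ 2) (hn : 3 ≤ n) (t : ℕ) :
    v t (SU n F q) = v t (PSU n F q) + (Nat.gcd n (q + 1)).factorization t := by
  have h1 : Nat.gcd n (q + 1) ≠ 0 := (Nat.gcd_pos_of_pos_left _ (by omega)).ne'
  rw [v, card_SU_eq hF hn, Nat.factorization_mul Nat.card_pos.ne' h1, Finsupp.add_apply]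

theorem gcd_fact_p {p f : ℕ} (hp : p.Prime) (hf : f ≠ 0) (hq : q = p ^ f) :
    (Nat.gcd n (q + 1)).factorization p = 0 := by
  apply Nat.factorization_eq_zero_of_not_dvd
  intro h
  have hpq : p ∣ q := by rw [hq]; exact dvd_pow_self p hf
  exact hp.one_lt.ne' (Nat.dvd_one.1 ((Nat.dvd_add_right hpq).1 (h.trans (Nat.gcd_dvd_right _ _))))

theorem v_PSU (hF : Fintype.card F = q ^ 2) (hn : 3 ≤ n) {p f : ℕ} (hp : p.Prime) (hf : f ≠ 0) (hq : q = p ^ f) :
    v p (PSU n F q) = f * (n * (n - 1) / 2) := by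
  have h1 := v_add hF hn p
  rw [v_SU hF (by omega) hp hf hq, gcd_fact_p hp hf hq] at h1
  omega

theorem center_PSU (hF : Fintype.card F = q ^ 2) (hn : 3 ≤ n) (h32 : ¬ (n = 3 ∧ q = 2)) :
    center (PSU n F q) = ⊥ := by
  have hs := Cfsg.Agent.S0283.result hF n hn h32
  exact center_eq_bot (Cfsg.Agent.CpAut.Fix.not_comm_quot (H := SU n F q))

/-- **`|Out PSU|`** -/
theorem out_PSU (hF : Fintype.card F = q ^ 2) (hn : 3 ≤ n) (h32 : ¬ (n = 3 ∧ q = 2)) {p f : ℕ} (hp : p.Prime)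
    (hf : f ≠ 0) (hq : q = p ^ f) : out (PSU n F q) = Nat.gcd n (q + 1) * (2 * f) := by
  have := Fact.mk hp
  have h1 := Cfsg.Agent.S0815.result p f (by omega) hq hF n hn h32
  have h2 : Nat.card (MulAut.conj : PSU n F q →* MulAut (PSU n F q)).range = Nat.card (PSU n F q) :=
    (Nat.card_congr (MonoidHom.ofInjective (conj_injective (center_PSU hF hn h32))).toEquiv).symm
  have h3 := Subgroup.card_mul_index (MulAut.conj : PSU n F q →* MulAut (PSU n F q)).range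
  rw [h2, h1, mul_comm] at h3
  exact Nat.eq_of_mul_eq_mul_right Nat.card_pos h3

theorem out_fact (hF : Fintype.card F = q ^ 2) (hn : 3 ≤ n) (h32 : ¬ (n = 3 ∧ q = 2)) {p f : ℕ} (hp : p.Prime)
    (hf : f ≠ 0) (hq : q = p ^ f) (t : ℕ) :
    (out (PSU n F q)).factorization t = (Nat.gcd n (q + 1)).factorization t + (2 * f).factorization t := by
  rw [out_PSU hF hn h32 hp hf hq, Nat.factorization_mul (Nat.gcd_pos_of_pos_left _ (by omega)).ne' (by omega),
    Finsupp.add_apply]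

theorem out_fact_p (hF : Fintype.card F = q ^ 2) (hn : 3 ≤ n) (h32 : ¬ (n = 3 ∧ q = 2)) {p f : ℕ} (hp : p.Prime)
    (hf : f ≠ 0) (hq : q = p ^ f) : (out (PSU n F q)).factorization p < 2 * f := by
  rw [out_fact hF hn h32 hp hf hq, gcd_fact_p hp hf hq, zero_add]
  exact Nat.factorization_lt _ (by omega)

/-! ### lifts of `p`-subgroups -/

/-- the order of a lift -/
theorem card_le_lift {P : Subgroup (SU n F q)} {Q : Subgroup (PSU n F q)} (h : P.map (pr n F q) = Q) :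
    Nat.card Q ≤ Nat.card P := by
  rw [← h]
  exact Nat.card_le_card_of_surjective _ ((pr n F q).subgroupMap_surjective P)

theorem le_of_pow_card {p : ℕ} (hp : p.Prime) {X : Type*} [Group X] [Finite X] {a b : ℕ}
    {Q : Subgroup X} (hQ : Nat.card Q = p ^ b) {N : ℕ} (h : p ^ a * Nat.card Q ≤ p ^ N) : a + b ≤ N := by
  rw [hQ, ← pow_add] at h
  exact (Nat.pow_le_pow_iff_right hp.one_lt).1 h

/-- a `p`-subgroup of full order -/
theorem exists_sylow_sub {X : Type*} [Group X] [Finite X] {p : ℕ} (hp : p.Prime) (H : Subgroup X) :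
    ∃ Q : Subgroup X, Q ≤ H ∧ IsPGroup p Q ∧ Nat.card Q = p ^ v p H := by
  have := Fact.mk hp
  obtain ⟨P⟩ : Nonempty (Sylow p ↥H) := inferInstance
  refine ⟨(P : Subgroup ↥H).map H.subtype, map_subtype_le _, P.isPGroup'.map _, ?_⟩
  rw [card_map_subtype, P.card_eq_multiplicity]

theorem pow_two_f {p f : ℕ} (hq : q = p ^ f) : q ^ 2 = p ^ (2 * f) := by rw [hq, ← pow_mul, mul_comm]

theorem coprime_pow_succ {p f : ℕ} (hp : p.Prime) (hf : f ≠ 0) (hq : q = p ^ f) (k : ℕ) :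
    (p ^ k).Coprime (q + 1) := by
  apply Nat.Coprime.pow_left
  rw [Nat.Prime.coprime_iff_not_dvd hp]
  intro h
  have hpq : p ∣ q := by rw [hq]; exact dvd_pow_self p hf
  exact hp.one_lt.ne' (Nat.dvd_one.1 ((Nat.dvd_add_right hpq).1 h))

/-- a `p`-subgroup of the fixed points of a linear automorphism lifts to a `p`-group commuting with the matrix -/
theorem exists_lift_com (hF : Fintype.card F = q ^ 2) (hn : 3 ≤ n) {p f : ℕ} [hp : Fact p.Prime]
    (hf : f ≠ 0) (hq : q = p ^ f) {A : GU n F q} {Q : Subgroup (PSU n F q)} (hQ : IsPGroup p Q)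
    (hfix : ∀ z ∈ Q, toAut A 1 z = z) :
    ∃ P : Subgroup (SU n F q), IsPGroup p P ∧ P.map (pr n F q) = Q ∧ ∀ g ∈ P, Com A g := by
  obtain ⟨P, hP, hPQ, -⟩ := exists_lift_pgroup (pr n F q) pr_surjective ker_pr hQ
  refine ⟨P, hP, hPQ, fun g hg => ?_⟩
  obtain ⟨k, hk⟩ := hP ⟨g, hg⟩
  have hk' : g ^ p ^ k = 1 := congrArg Subtype.val hk
  exact comm_of_fix hF hn (coprime_pow_succ hp.1 hf hq k) hk' (hfix _ (by rw [← hPQ]; exact ⟨g, hg, rfl⟩))

/-- **The fixed points of linear automorphisms of order prime to `p`.** -/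
theorem lin_bound (hF : Fintype.card F = q ^ 2) (hn : 3 ≤ n) {p f : ℕ} [hp : Fact p.Prime] [CharP F p]
    (hf : f ≠ 0) (hq : q = p ^ f) {A : GU n F q} {j : ℕ} (hj : j.Coprime p) (hA : toAut A 1 ^ j = 1)
    (hA1 : toAut A 1 ≠ 1) : v p (Fx (toAut A 1)) + 2 * f ≤ v p (PSU n F q) := by
  obtain ⟨Q, hQle, hQ, hQc⟩ := exists_sylow_sub hp.1 (Fx (toAut A 1))
  obtain ⟨P, hP, hPQ, hcom⟩ := exists_lift_com hF hn hf hq hQ (fun z hz => hQle hz)
  have h1 := card_le_of_semisimple hF hn hj hA hA1 P hP hcom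
  have h2 := (Nat.mul_le_mul_left (q ^ 2) (card_le_lift hPQ)).trans h1
  have h3 : v p (PSU n F q) = v p (SU n F q) := by
    rw [v_PSU hF hn hp.1 hf hq, v_SU hF (by omega) hp.1 hf hq]
  rw [h3]
  rw [pow_two_f hq] at h2
  have h4 : 2 * f + v p (Fx (toAut A 1)) ≤ v p (SU n F q) := le_of_pow_card hp.1 hQc h2
  omega

/-! ### field automorphisms -/

/-- conjugate automorphisms -/
theorem v_Fx_conj {S : Type*} [Group S] (m b : MulAut S) (p : ℕ) : v p (Fx (m * b * m⁻¹)) = v p (Fx b) := by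
  have h1 : Nat.card (Fx (m * b * m⁻¹)) = Nat.card (Fx b) := by
    refine Nat.card_congr ⟨fun x => ⟨m⁻¹ x, ?_⟩, fun x => ⟨m x, ?_⟩, fun x => ?_, fun x => ?_⟩
    · have h2 : (m * b * m⁻¹) (x : S) = x := x.2
      rw [mem_Fx]
      have h3 := congrArg (m⁻¹ : MulAut S) h2
      rwa [MulAut.mul_apply, MulAut.mul_apply, MulAut.inv_apply_self] at h3
    · rw [mem_Fx, MulAut.mul_apply, MulAut.mul_apply, MulAut.inv_apply_self, mem_Fx.1 x.2]
    · apply Subtype.ext
      exact MulEquiv.apply_symm_apply m (x : S)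
    · apply Subtype.ext
      exact MulEquiv.symm_apply_apply m (x : S)
  rw [v, h1]

/-- **The fixed points of the automorphisms which are not linear.** -/
theorem fld_bound (hF : Fintype.card F = q ^ 2) (hn : 3 ≤ n) {p f : ℕ} [hp : Fact p.Prime] [CharP F p]
    (hf : f ≠ 0) (hq : q = p ^ f) {A : GU n F q} {ρ : F ≃+* F} {t : ℕ} (ht : t.Prime) (ht2 : t ≠ 2)
    (hA : toAut A ρ ^ t = 1) (hρ : ρ ≠ 1) : 3 * v p (Fx (toAut A ρ)) ≤ v p (PSU n F q) := by
  have hodd := ht.odd_of_ne_two ht2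
  obtain ⟨hord2, M, hM⟩ := Cfsg.Agent.CpAutU.Desc.exists_conj hF hn ht ht2 hA hρ
  rw [hM, v_Fx_conj]
  obtain ⟨s, hs2, hs, hqs⟩ := Cfsg.Agent.CpAutU.Fld.exists_s' hF hord2 hodd
  have hpow : ∀ a ∈ fixf ρ, a ^ q = a ^ s := fun a ha => Cfsg.Agent.CpAutU.Fld.pow_q hodd hs hqs ha
  obtain ⟨g', hg', hsg⟩ : ∃ g', g' ≤ f ∧ s = p ^ g' := by
    apply (Nat.dvd_prime_pow hp.1).1
    rw [← hq, hqs]
    exact dvd_pow_self s ht.ne_zero
  have hfg : f = g' * t := by
    apply Nat.pow_right_injective hp.1.two_le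
    show p ^ f = p ^ (g' * t)
    rw [← hq, hqs, hsg, pow_mul]
  have hg0 : g' ≠ 0 := by
    rintro rfl
    rw [pow_zero] at hsg
    omega
  have := Fintype.ofFinite ↥(fixf ρ)
  have hF₀ : Fintype.card ↥(fixf ρ) = s ^ 2 := by rw [← Nat.card_eq_fintype_card, hs]
  obtain ⟨Q, hQle, hQ, hQc⟩ := exists_sylow_sub hp.1 (Fx (toAut (1 : GU n F q) ρ))
  obtain ⟨P, hP, hPQ, -⟩ := exists_lift_pgroup (pr n F q) pr_surjective ker_pr hQ
  have hPfix : ∀ g ∈ P, semiConj 1 ρ g = g := by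
    intro g hg
    obtain ⟨k, hk⟩ := hP ⟨g, hg⟩
    have hk' : g ^ p ^ k = 1 := congrArg Subtype.val hk
    have h1 : pr n F q (semiConj 1 ρ g) = pr n F q g := hQle (by rw [← hPQ]; exact ⟨g, hg, rfl⟩)
    refine eq_of_pr_eq hF hn (coprime_pow_succ hp.1 hf hq k) ?_ hk' h1
    rw [← map_pow, hk', map_one]
  have hle : P ≤ (Cfsg.Agent.CpAutU.Fixed.embSU (n := n) hF hpow).range := by
    intro g hg
    exact Cfsg.Agent.CpAutU.Fixed.exists_embSU hF hpow (hPfix g hg)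
  have hcr : Nat.card (Cfsg.Agent.CpAutU.Fixed.embSU (n := n) hF hpow).range = Nat.card (SU n ↥(fixf ρ) s) :=
    (Nat.card_congr (MonoidHom.ofInjective (Cfsg.Agent.CpAutU.Fixed.embSU_injective hF hpow)).toEquiv).symm
  have h1 : v p P ≤ v p (SU n ↥(fixf ρ) s) := by
    rw [v, v, ← hcr]
    exact v_mono hle p
  rw [v_SU hF₀ (by omega) hp.1 hg0 hsg] at h1
  have h2 : v p (Fx (toAut (1 : GU n F q) ρ)) ≤ v p P := by
    obtain ⟨k, hk⟩ := IsPGroup.iff_card.1 hP
    have h3 := card_le_lift hPQ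
    rw [hQc, hk] at h3
    have h4 := (Nat.pow_le_pow_iff_right hp.1.one_lt).1 h3
    have h5 : v p P = k := by rw [v, hk, hp.1.factorization_pow, Finsupp.single_eq_same]
    rw [h5]
    exact h4
  rw [v_PSU hF hn hp.1 hf hq, hfg]
  have ht3 : 3 ≤ t := by have := ht.two_le; omega
  calc 3 * v p (Fx (toAut (1 : GU n F q) ρ)) ≤ t * (g' * (n * (n - 1) / 2)) := Nat.mul_le_mul ht3 (h2.trans h1)
    _ = g' * t * (n * (n - 1) / 2) := by ring

end Cfsg.Agent.H715.PDU
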