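import Mathlib

/-!
# Row PSU of S4246: matrices with `n` distinct eigenvalues
-/

set_option autoImplicit false

namespace Cfsg.Agent.H715.PDU

open Module Matrix

variable {K : Type*} [Field K] {n : ℕ}

/-- `n` distinct eigenvalues -/
structure Eig (Y : Matrix (Fin n) (Fin n) K) (μ : Fin n → K) (b : Fin n → (Fin n → K)) : Prop where
  ne : ∀ i, b i ≠ 0
  eig : ∀ i, Y *ᵥ b i = μ i • b i
  inj : Function.Injective μ

variable {Y G : Matrix (Fin n) (Fin n) K} {μ : Fin n → K} {b : Fin n → (Fin n → K)}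

theorem Eig.li (h : Eig Y μ b) : LinearIndependent K b := by
  refine Module.End.eigenvectors_linearIndependent' (Matrix.toLin' Y) μ h.inj b fun i => ?_
  rw [Module.End.hasEigenvector_iff, Module.End.mem_eigenspace_iff, Matrix.toLin'_apply]
  exact ⟨h.eig i, h.ne i⟩

theorem Eig.top_le (h : Eig Y μ b) : ⊤ ≤ Submodule.span K (Set.range b) := by
  rw [h.li.span_eq_top_of_card_eq_finrank' (by rw [Fintype.card_fin, finrank_fin_fun])]

theorem Eig.exists_sum (h : Eig Y μ b) (v : Fin n → K) : ∃ c : Fin n → K, v = ∑ i, c i • b i := by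
  have h1 : v ∈ Submodule.span K (Set.range b) := h.top_le Submodule.mem_top
  rw [Submodule.mem_span_range_iff_exists_fun] at h1
  obtain ⟨c, hc⟩ := h1
  exact ⟨c, hc.symm⟩

theorem Eig.comb (h : Eig Y μ b) (c : Fin n → K) : Y *ᵥ (∑ i, c i • b i) = ∑ i, (μ i * c i) • b i := by
  rw [Matrix.mulVec_sum]
  refine Finset.sum_congr rfl fun i _ => ?_
  rw [mulVec_smul, h.eig, smul_smul, mul_comm]

/-- every eigenvalue is in the list, and the eigenspaces are lines -/
theorem Eig.exists_eigenvalue (h : Eig Y μ b) {v : Fin n → K} (hv : v ≠ 0) {a : K} (ha : Y *ᵥ v = a • v) :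
    ∃ i, a = μ i ∧ ∃ c : K, v = c • b i := by
  obtain ⟨c, hc⟩ := h.exists_sum v
  have h1 : ∑ i, ((μ i - a) * c i) • b i = 0 := by
    have h2 : Y *ᵥ v - a • v = 0 := sub_eq_zero.2 ha
    rw [hc, h.comb, Finset.smul_sum, ← Finset.sum_sub_distrib] at h2
    rw [← h2]
    refine Finset.sum_congr rfl fun i _ => ?_
    rw [smul_smul, ← sub_smul, sub_mul]
  have h2 := (Fintype.linearIndependent_iff.1 h.li) _ h1
  obtain ⟨i, hi⟩ : ∃ i, c i ≠ 0 := by
    by_contra hcon
    push Not at hcon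
    apply hv
    rw [hc]
    exact Finset.sum_eq_zero fun i _ => by rw [hcon i, zero_smul]
  have h3 : μ i = a := by
    rcases mul_eq_zero.1 (h2 i) with h3 | h3
    · exact sub_eq_zero.1 h3
    · exact absurd h3 hi
  refine ⟨i, h3.symm, c i, ?_⟩
  rw [hc]
  refine Finset.sum_eq_single i (fun j _ hj => ?_) (fun hi => absurd (Finset.mem_univ i) hi)
  rcases mul_eq_zero.1 (h2 j) with h4 | h4
  · exact absurd (h.inj ((sub_eq_zero.1 h4).trans h3.symm)) hj
  · rw [h4, zero_smul]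

theorem Eig.comm (h : Eig Y μ b) (hG : G * Y = Y * G) (i : Fin n) : ∃ c : K, G *ᵥ b i = c • b i := by
  by_cases h0 : G *ᵥ b i = 0
  · exact ⟨0, by rw [h0, zero_smul]⟩
  · have h1 : Y *ᵥ (G *ᵥ b i) = μ i • (G *ᵥ b i) := by
      rw [mulVec_mulVec, ← hG, ← mulVec_mulVec, h.eig, mulVec_smul]
    obtain ⟨j, hj, c, hc⟩ := h.exists_eigenvalue h0 h1
    rw [← h.inj hj] at hc
    exact ⟨c, hc⟩

theorem Eig.ext (h : Eig Y μ b) {G' : Matrix (Fin n) (Fin n) K} (hG : ∀ i, G *ᵥ b i = G' *ᵥ b i) : G = G' := by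
  apply Matrix.ext_of_mulVec_single
  intro i
  obtain ⟨c, hc⟩ := h.exists_sum (Pi.single i 1)
  rw [hc, Matrix.mulVec_sum, Matrix.mulVec_sum]
  refine Finset.sum_congr rfl fun j _ => ?_
  rw [mulVec_smul, mulVec_smul, hG]

theorem Eig.det_eq (h : Eig Y μ b) {χ : Fin n → K} (hG : ∀ i, G *ᵥ b i = χ i • b i) : G.det = ∏ i, χ i := by
  have h1 : G * (Matrix.of b)ᵀ = (Matrix.of b)ᵀ * diagonal χ := by
    ext i j
    have h2 := congrFun (hG j) i
    rw [Matrix.mul_diagonal, Matrix.transpose_apply, Matrix.of_apply, mul_comm]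
    exact h2
  have h2 : IsUnit (Matrix.of b)ᵀ := by
    rw [Matrix.isUnit_transpose, ← Matrix.linearIndependent_rows_iff_isUnit]
    exact h.li
  have h3 := congrArg Matrix.det h1
  rw [det_mul, det_mul, det_diagonal, mul_comm] at h3
  exact mul_left_cancel₀ ((Matrix.isUnit_iff_isUnit_det _).1 h2).ne_zero h3

theorem Eig.exists_dot (h : Eig Y μ b) {f : Fin n → K} (hf : f ≠ 0) : ∃ i, f ⬝ᵥ b i ≠ 0 := by
  by_contra hcon
  push Not at hcon
  apply hf
  apply dotProduct_eq_zero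
  intro w
  obtain ⟨c, hc⟩ := h.exists_sum w
  rw [hc, dotProduct_sum]
  refine Finset.sum_eq_zero fun i _ => ?_
  rw [dotProduct_smul, hcon, smul_zero]

/-- an eigenvalue different from `1` of a matrix of finite order -/
theorem exists_eig_ne_one [IsAlgClosed K] {l : ℕ} (hl : (l : K) ≠ 0) (hY : Y ^ l = 1) (hY1 : Y ≠ 1) :
    ∃ θ : K, θ ≠ 1 ∧ θ ^ l = 1 ∧ ∃ e : Fin n → K, e ≠ 0 ∧ Y *ᵥ e = θ • e := by
  set T : Matrix (Fin n) (Fin n) K := ∑ i ∈ Finset.range l, Y ^ i with hT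
  have hTY : T * (Y - 1) = 0 := by
    rw [hT, geom_sum_mul, hY, sub_self]
  have hcom : T * Y = Y * T := by
    rw [hT, Finset.sum_mul, Finset.mul_sum]
    exact Finset.sum_congr rfl fun i _ => by rw [← pow_succ, ← pow_succ']
  obtain ⟨i, hi⟩ : ∃ i, (Y - 1) *ᵥ (Pi.single i 1 : Fin n → K) ≠ 0 := by
    by_contra hcon
    push Not at hcon
    apply hY1
    rw [← sub_eq_zero]
    apply Matrix.ext_of_mulVec_single
    intro i
    rw [hcon i, zero_mulVec]
  set w := (Y - 1) *ᵥ (Pi.single i 1 : Fin n → K) with hw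
  have hTw : T *ᵥ w = 0 := by rw [hw, mulVec_mulVec, hTY, zero_mulVec]
  let X : Submodule K (Fin n → K) := LinearMap.ker (Matrix.toLin' T)
  have hwX : w ∈ X := by
    rw [LinearMap.mem_ker, Matrix.toLin'_apply]
    exact hTw
  have hX : ∀ u ∈ X, Matrix.toLin' Y u ∈ X := by
    intro u hu
    rw [LinearMap.mem_ker, Matrix.toLin'_apply] at hu ⊢
    rw [Matrix.toLin'_apply, mulVec_mulVec, hcom, ← mulVec_mulVec, hu, mulVec_zero]
  have hnt : Nontrivial X := ⟨⟨w, hwX⟩, 0, fun h0 => hi (congrArg Subtype.val h0)⟩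
  obtain ⟨θ, hθ⟩ := Module.End.exists_eigenvalue ((Matrix.toLin' Y).restrict hX)
  obtain ⟨⟨e, heX⟩, he⟩ := hθ.exists_hasEigenvector
  rw [Module.End.hasEigenvector_iff, Module.End.mem_eigenspace_iff] at he
  have he1 : Y *ᵥ e = θ • e := by
    have h1 := congrArg Subtype.val he.1
    rwa [LinearMap.coe_restrict_apply, Matrix.toLin'_apply] at h1
  have he0 : e ≠ 0 := fun h0 => he.2 (Subtype.ext h0)
  have hpow : ∀ i : ℕ, Y ^ i *ᵥ e = θ ^ i • e := by
    intro i
    induction i with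
    | zero => rw [pow_zero, pow_zero, one_mulVec, one_smul]
    | succ i ih => rw [pow_succ, ← mulVec_mulVec, he1, mulVec_smul, ih, smul_smul, pow_succ']
  refine ⟨θ, ?_, ?_, e, he0, he1⟩
  · rintro rfl
    have h1 : T *ᵥ e = 0 := by
      rw [LinearMap.mem_ker, Matrix.toLin'_apply] at heX
      exact heX
    rw [hT, Matrix.sum_mulVec] at h1
    simp only [hpow, one_pow, one_smul] at h1
    rw [Finset.sum_const, Finset.card_range, ← Nat.cast_smul_eq_nsmul K] at h1
    rcases smul_eq_zero.1 h1 with h2 | h2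
    · exact hl h2
    · exact he0 h2
  · have h1 := hpow l
    rw [hY, one_mulVec] at h1
    have h2 : (1 - θ ^ l) • e = 0 := by rw [sub_smul, one_smul, ← h1, sub_self]
    rcases smul_eq_zero.1 h2 with h3 | h3
    · exact (sub_eq_zero.1 h3).symm
    · exact absurd h3 he0

end Cfsg.Agent.H715.PDU
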