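import Cfsg.Agent.H715.PDU.Psu

/-!
# Row PSU of S4246: numbers
-/

set_option autoImplicit false

namespace Cfsg.Agent.H715.PDU

open Cfsg Module Matrix Subgroup
open Cfsg.Agent.LieClassical.HermBasic Cfsg.Agent.LieClassical.HermSiegel
open Cfsg.Agent.ClassicalGeometry.PSUAutBasic (pr pr_surjective pr_eq_one_iff exists_center_mul)
open Cfsg.Agent.ClassicalGeometry.PSUAutCount (gm toAut)
open Cfsg.Agent.H173.RU
open Cfsg.Agent.H160.PD

theorem tor_one (q : ℕ) : tor q 1 = q + 1 := by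
  rw [tor, if_neg (by decide), pow_one]

/-- the factors of `|SU|` -/
theorem v_SU_ge {F : Type*} [Field F] [Fintype F] {q n : ℕ} (hF : Fintype.card F = q ^ 2) (hn : 1 ≤ n) (t : ℕ)
    (s : Finset ℕ) (hs : s ⊆ Finset.Icc 2 n) : ∑ m ∈ s, (tor q m).factorization t ≤ v t (SU n F q) := by
  have hq := two_le hF
  have h := Cfsg.Agent.S0278.result hF n hn
  have e1 : ∀ i, (if Even i then q ^ (i + 1) + 1 else q ^ (i + 1) - 1) = tor q (i + 1) := by
    intro i
    rw [tor]
    by_cases he : Even i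
    · have : ¬ Even (i + 1) := by rw [Nat.even_add_one]; exact not_not.2 he
      rw [if_pos he, if_neg this]
    · have : Even (i + 1) := by rw [Nat.even_add_one]; exact he
      rw [if_neg he, if_pos this]
  rw [Finset.prod_congr rfl (fun i _ => e1 i)] at h
  have e2 : (Finset.range n).map (addRightEmbedding 1) = Finset.Icc 1 n := by
    ext x
    simp only [Finset.mem_map, Finset.mem_range, addRightEmbedding_apply, Finset.mem_Icc]
    constructor
    · rintro ⟨a, ha, rfl⟩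
      omega
    · rintro ⟨h1, h2⟩
      exact ⟨x - 1, by omega, by omega⟩
  have e3 : ∏ m ∈ Finset.Icc 1 n, tor q m = ∏ i ∈ Finset.range n, tor q (i + 1) := by
    rw [← e2, Finset.prod_map]
    rfl
  rw [← e3] at h
  have hne : ∀ m ∈ Finset.Icc 1 n, tor q m ≠ 0 := fun m hm =>
    (tor_pos hq (Finset.mem_Icc.1 hm).1).ne'
  have hp0 : ∏ m ∈ Finset.Icc 1 n, tor q m ≠ 0 := Finset.prod_ne_zero_iff.2 hne
  have h1 := congrArg (fun m => Nat.factorization m t) h
  beta_reduce at h1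
  rw [Nat.factorization_mul (by omega) Nat.card_pos.ne', Nat.factorization_mul (pow_ne_zero _ (by omega)) hp0,
    Finsupp.add_apply, Finsupp.add_apply, Nat.factorization_prod hne, Finsupp.finset_sum_apply] at h1
  have h2 : ∑ m ∈ Finset.Icc 1 n, (tor q m).factorization t =
      (tor q 1).factorization t + ∑ m ∈ Finset.Icc 2 n, (tor q m).factorization t := by
    have h3 : Finset.Icc 1 n = insert 1 (Finset.Icc 2 n) := by
      ext x
      simp only [Finset.mem_insert, Finset.mem_Icc]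
      omega
    rw [h3, Finset.sum_insert (by simp)]
  rw [h2, tor_one] at h1
  have h3 : ∑ m ∈ s, (tor q m).factorization t ≤ ∑ m ∈ Finset.Icc 2 n, (tor q m).factorization t :=
    Finset.sum_le_sum_of_subset hs
  show _ ≤ (Nat.card (SU n F q)).factorization t
  omega

/-- **Lifting the exponent.** -/
theorem lte {p f q m t : ℕ} (hp : p.Prime) (hf : f ≠ 0) (hq : q = p ^ f) (ht : t.Prime) (ht2 : t ≠ 2) (hm : 1 ≤ m)
    (hd : t ∣ tor q m) : (2 * f).factorization t < (tor q m).factorization t := by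
  have hq2 : 2 ≤ q := by
    rw [hq]
    calc 2 ≤ p := hp.two_le
      _ = p ^ 1 := (pow_one p).symm
      _ ≤ p ^ f := Nat.pow_le_pow_right hp.pos (by omega)
  have h1 : (2 * f).factorization t = f.factorization t := by
    rw [Nat.factorization_mul two_ne_zero hf, Finsupp.add_apply, Nat.prime_two.factorization,
      Finsupp.single_eq_of_ne (fun h => ht2 h), zero_add]
  rw [h1]
  apply (ht.pow_dvd_iff_le_factorization (tor_pos hq2 hm).ne').1
  set a := f.factorization t with ha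
  obtain ⟨f', hf'⟩ : ∃ f', f = t ^ a * f' := ⟨f / t ^ a, (Nat.ordProj_mul_ordCompl_eq_self f t).symm⟩
  have hqm : q ^ m = (p ^ (f' * m)) ^ t ^ a := by
    rw [hq, ← pow_mul, ← pow_mul]
    congr 1
    conv_lhs => rw [hf']
    ring
  have htF := Fact.mk ht
  have hodd : Odd (t ^ a) := (ht.odd_of_ne_two ht2).pow
  have h1q : 1 ≤ q ^ m := Nat.one_le_pow _ _ (by omega)
  have key : ∀ ε : ℤ, ε ^ t ^ a = ε → (t : ℤ) ∣ (q : ℤ) ^ m - ε → (t : ℤ) ^ (a + 1) ∣ (q : ℤ) ^ m - ε := by
    intro ε hε h2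
    have e1 : (q : ℤ) ^ m = ((p : ℤ) ^ (f' * m)) ^ t ^ a := by
      exact_mod_cast hqm
    have h3 : (t : ℤ) ∣ (p : ℤ) ^ (f' * m) - ε := by
      rw [← ZMod.intCast_zmod_eq_zero_iff_dvd] at h2 ⊢
      rw [e1] at h2
      push_cast at h2 ⊢
      rw [ZMod.pow_card_pow] at h2
      exact h2
    have h4 := dvd_sub_pow_of_dvd_sub h3 a
    rwa [← e1, hε] at h4
  rw [tor] at hd ⊢
  by_cases he : Even m
  · rw [if_pos he] at hd ⊢
    have h2 := key 1 (one_pow _) (by
      have h3 : ((q ^ m - 1 : ℕ) : ℤ) = (q : ℤ) ^ m - 1 := by push_cast [h1q]; ring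
      rw [← h3]
      exact_mod_cast hd)
    have h3 : ((q ^ m - 1 : ℕ) : ℤ) = (q : ℤ) ^ m - 1 := by push_cast [h1q]; ring
    rw [← h3] at h2
    exact_mod_cast h2
  · rw [if_neg he] at hd ⊢
    have h2 := key (-1) (by rw [hodd.neg_pow, one_pow]) (by
      have h3 : ((q ^ m + 1 : ℕ) : ℤ) = (q : ℤ) ^ m - (-1) := by push_cast; ring
      rw [← h3]
      exact_mod_cast hd)
    have h3 : ((q ^ m + 1 : ℕ) : ℤ) = (q : ℤ) ^ m - (-1) := by push_cast; ring
    rw [← h3] at h2
    exact_mod_cast h2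

/-- the prime `2` -/
theorem lte_two {p f q : ℕ} (hp : p.Prime) (hp2 : p ≠ 2) (hf : f ≠ 0) (hq : q = p ^ f) :
    (2 * f).factorization 2 + 1 < (tor q 2).factorization 2 := by
  have hq2 : 2 ≤ q := by
    rw [hq]
    calc 2 ≤ p := hp.two_le
      _ = p ^ 1 := (pow_one p).symm
      _ ≤ p ^ f := Nat.pow_le_pow_right hp.pos (by omega)
  have h1 : (2 * f).factorization 2 = 1 + f.factorization 2 := by
    rw [Nat.factorization_mul two_ne_zero hf, Finsupp.add_apply, Nat.prime_two.factorization,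
      Finsupp.single_eq_same]
  rw [h1]
  suffices h : 2 ^ (f.factorization 2 + 3) ∣ tor q 2 by
    have := (Nat.prime_two.pow_dvd_iff_le_factorization (tor_pos hq2 (by norm_num)).ne').1 h
    omega
  set a := f.factorization 2 with ha
  obtain ⟨f', hf'⟩ : ∃ f', f = 2 ^ a * f' := ⟨f / 2 ^ a, (Nat.ordProj_mul_ordCompl_eq_self f 2).symm⟩
  have hodd : Odd p := hp.odd_of_ne_two hp2
  have key : ∀ (x : ℕ), Odd x → ∀ b : ℕ, 2 ^ (b + 3) ∣ (x ^ 2) ^ 2 ^ b - 1 := by
    intro x hx b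
    induction b with
    | zero =>
      rw [pow_zero, pow_one, zero_add]
      obtain ⟨c, rfl⟩ := hx
      have h2 : (2 * c + 1) ^ 2 - 1 = 4 * (c * (c + 1)) := by
        have : (2 * c + 1) ^ 2 = 4 * (c * (c + 1)) + 1 := by ring
        rw [this]
        rfl
      rw [h2]
      have h3 : 2 ∣ c * (c + 1) := (Nat.even_mul_succ_self c).two_dvd
      exact Nat.mul_dvd_mul (by norm_num : 4 ∣ 4) h3
    | succ b ih =>
      have h2 : (x ^ 2) ^ 2 ^ (b + 1) - 1 = ((x ^ 2) ^ 2 ^ b - 1) * ((x ^ 2) ^ 2 ^ b + 1) := by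
        rw [pow_succ 2 b, pow_mul]
        have := Nat.sq_sub_sq ((x ^ 2) ^ 2 ^ b) 1
        rw [one_pow] at this
        rw [this, mul_comm]
      rw [h2, show b + 1 + 3 = (b + 3) + 1 from rfl, pow_succ 2 (b + 3)]
      apply Nat.mul_dvd_mul ih
      have h3 : Odd ((x ^ 2) ^ 2 ^ b) := (hx.pow).pow
      obtain ⟨c, hc⟩ := h3
      exact ⟨c + 1, by rw [hc]; ring⟩
  rw [tor, if_pos (by decide)]
  have hqm : q ^ 2 = ((p ^ f') ^ 2) ^ 2 ^ a := by
    rw [hq, ← pow_mul, ← pow_mul, ← pow_mul]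
    congr 1
    conv_lhs => rw [hf']
    ring
  rw [hqm]
  exact key _ (hodd.pow) a

/-- the inequality for the subgroups of odd order -/
theorem log_ineq {p n e : ℕ} (hp : p.Prime) (hp2 : p ≠ 2) (hn : 4 ≤ n) (he : e = n ∨ e + 1 = n) (he4 : 4 ≤ e) :
    n.factorization p + (n - 1).factorization p + 3 ≤ e := by
  have hp3 : 3 ≤ p := by have := hp.two_le; omega
  have h1 : p ^ (n.factorization p + (n - 1).factorization p) ≤ n := by
    by_cases h0 : p ∣ n
    · have h2 : ¬ p ∣ n - 1 := by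
        intro h3
        have h4 : n - (n - 1) = 1 := by omega
        exact hp.one_lt.ne' (Nat.dvd_one.1 (h4 ▸ Nat.dvd_sub h0 h3))
      rw [Nat.factorization_eq_zero_of_not_dvd h2, add_zero]
      exact Nat.le_of_dvd (by omega) (Nat.ordProj_dvd n p)
    · rw [Nat.factorization_eq_zero_of_not_dvd h0, zero_add]
      exact (Nat.le_of_dvd (by omega) (Nat.ordProj_dvd (n - 1) p)).trans (by omega)
  have h2 : ∀ j : ℕ, j + 5 < 3 ^ (j + 2) := by
    intro j
    induction j with
    | zero => norm_num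
    | succ j ih =>
      rw [show j + 1 + 2 = (j + 2) + 1 from rfl, pow_succ]
      omega
  by_contra hcon
  push Not at hcon
  obtain ⟨j, hj⟩ : ∃ j, e = j + 4 := ⟨e - 4, by omega⟩
  have h3 := h2 j
  have h4 : 3 ^ (j + 2) ≤ p ^ (n.factorization p + (n - 1).factorization p) :=
    (Nat.pow_le_pow_left hp3 _).trans (Nat.pow_le_pow_right (by omega) (by omega))
  omega

end Cfsg.Agent.H715.PDU
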