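import Cfsg.Agent.H173.RU.Lift
import Cfsg.Agent.LieClassical.HermSimple

/-!
# Row PSU of S4246: large `p`-subgroups of `SU n F q` in the defining characteristic

`sg hF u hu` is the root group (the Siegel transformations) of the isotropic vector `u`; a `p`-subgroup `Q` of small
index in a Sylow subgroup meets some root group in a subgroup of small index, hence fixes only one line.
-/

set_option autoImplicit false

namespace Cfsg.Agent.H715.PDU

open Cfsg Module Matrix Subgroup
open Cfsg.Agent.LieClassical.HermBasic Cfsg.Agent.LieClassical.HermSiegel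
open Cfsg.Agent.ClassicalGeometry.HermOrtho
open Cfsg.Agent.GpUn
open Cfsg.Agent.H173.RU

variable {F : Type*} [Field F] [Fintype F] {q n : ℕ}

/-- the root group of the isotropic vector `u` -/
def sg (hF : Fintype.card F = q ^ 2) (u : Fin n → F) (hu : hermForm n F q u u = 0) : Subgroup (SU n F q) where
  carrier := {g | ∃ (w : Fin n → F) (μ : F) (h : IsSiegel q u w μ), g = siegel hF u w μ h}
  mul_mem' := by
    rintro _ _ ⟨w, μ, h, rfl⟩ ⟨w', μ', h', rfl⟩
    exact ⟨_, _, h.mul hF h', siegel_mul hF h h'⟩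
  one_mem' := ⟨0, 0, IsSiegel.zero hF hu, (siegel_zero hF _).symm⟩
  inv_mem' := by
    rintro _ ⟨w, μ, h, rfl⟩
    exact ⟨_, _, h.inv hF, siegel_inv hF h⟩

theorem mem_sg (hF : Fintype.card F = q ^ 2) {u : Fin n → F} (hu : hermForm n F q u u = 0) {g : SU n F q} :
    g ∈ sg hF u hu ↔ ∃ (w : Fin n → F) (μ : F) (h : IsSiegel q u w μ), g = siegel hF u w μ h := Iff.rfl

/-- unipotent elements have `p`-power order -/
theorem pow_card_eq_one (hF : Fintype.card F = q ^ 2) {g : SU n F q}
    (h : (mat g - 1) * (mat g - 1) * (mat g - 1) = 0) : g ^ Fintype.card F = 1 := by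
  obtain ⟨p, hp⟩ := CharP.exists F
  obtain ⟨k, hprime, hcard⟩ := FiniteField.card F p
  have := Fact.mk hprime
  rcases Nat.eq_zero_or_pos n with rfl | hn
  · exact ext_act fun v => Subsingleton.elim _ _
  have : Nonempty (Fin n) := ⟨⟨0, hn⟩⟩
  have h3 : 3 ≤ Fintype.card F := by have := two_le hF; rw [hF]; nlinarith
  have hc : (mat g - 1) ^ Fintype.card F = mat g ^ Fintype.card F - 1 := by
    rw [hcard]
    have := sub_pow_char_pow_of_commute (R := Matrix (Fin n) (Fin n) F) (p := p) (n := (k : ℕ))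
      (Commute.one_right (mat g))
    rw [this, one_pow]
  have h0 : (mat g - 1) ^ Fintype.card F = 0 := by
    obtain ⟨m, hm⟩ := Nat.exists_eq_add_of_le h3
    rw [hm, pow_add, pow_succ, pow_two, h, zero_mul]
  rw [h0] at hc
  have h1 : mat g ^ Fintype.card F = 1 := (sub_eq_zero.1 hc.symm)
  have h6 : ∀ (g : SU n F q) (k : ℕ), mat (g ^ k) = mat g ^ k := by
    intro g k
    induction k with
    | zero => rw [pow_zero, pow_zero]; rfl
    | succ k ih => rw [pow_succ, pow_succ, ← ih]; rfl
  apply mat_injective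
  rw [h6, h1, mat_one]

theorem card_eq_pow {p : ℕ} [Fact p.Prime] [CharP F p] : ∃ k : ℕ, Fintype.card F = p ^ k := by
  obtain ⟨k, -, hcard⟩ := FiniteField.card F p
  exact ⟨k, hcard⟩

theorem siegel_pow (hF : Fintype.card F = q ^ 2) {u w : Fin n → F} {μ : F} (h : IsSiegel q u w μ) :
    siegel hF u w μ h ^ Fintype.card F = 1 := by
  apply pow_card_eq_one hF
  apply Matrix.ext_of_mulVec_single
  intro i
  set e : Fin n → F := Pi.single i 1
  have key : ∀ v : Fin n → F, (mat (siegel hF u w μ h) - 1) *ᵥ v =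
      hermForm n F q v u • w + (μ * hermForm n F q v u - hermForm n F q v w) • u := by
    intro v
    rw [Matrix.sub_mulVec, ← act_def, act_siegel, Matrix.one_mulVec]
    abel
  rw [Matrix.zero_mulVec, ← Matrix.mulVec_mulVec, ← Matrix.mulVec_mulVec, key e, key, key]
  simp only [herm_add_left, herm_smul_left, h.iso, h.orth, h.orth' hF, mul_zero, add_zero,
    zero_sub, zero_smul, zero_add, sub_self]

theorem sg_isPGroup (hF : Fintype.card F = q ^ 2) {p : ℕ} [hp : Fact p.Prime] [CharP F p] {u : Fin n → F}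
    (hu : hermForm n F q u u = 0) : IsPGroup p ↥(sg hF u hu) := by
  rintro ⟨g, w, μ, h, rfl⟩
  obtain ⟨k, hk⟩ := card_eq_pow (F := F) (p := p)
  refine ⟨k, Subtype.ext ?_⟩
  have := siegel_pow hF h
  rw [hk] at this
  exact this

/-- **Root groups meeting a `p`-subgroup in a large subgroup.** -/
theorem exists_root (hF : Fintype.card F = q ^ 2) (hn : 2 ≤ n) {p : ℕ} [hp : Fact p.Prime] [CharP F p]
    (Q : Subgroup (SU n F q)) (hQ : IsPGroup p Q) :
    ∃ (u : Fin n → F) (hu : hermForm n F q u u = 0), u ≠ 0 ∧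
      Q.relIndex (sg hF u hu) * Nat.card Q ≤ p ^ (Nat.card (SU n F q)).factorization p := by
  obtain ⟨u₀, u', a, b, ha, hu₀, -, h1, h2, h3⟩ := Cfsg.Agent.LieClassical.HermGen.exists_hyp_pair (F := F) (q := q)
    hF (i := (⟨0, by omega⟩ : Fin n)) (j := ⟨1, by omega⟩) (by simp)
  have hu00 : u₀ ≠ 0 := by
    rintro h0
    rw [h0, herm_zero_left] at h3
    exact zero_ne_one h3
  obtain ⟨P₀, hP₀⟩ := (sg_isPGroup hF (p := p) h1).exists_le_sylow
  obtain ⟨P₁, hP₁⟩ := hQ.exists_le_sylow
  obtain ⟨g, hg⟩ := MulAction.exists_smul_eq (SU n F q) P₀ P₁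
  have hgu : hermForm n F q (act g u₀) (act g u₀) = 0 := by rw [herm_act, h1]
  have hle : sg hF (act g u₀) hgu ≤ (P₁ : Subgroup (SU n F q)) := by
    rintro _ ⟨w, μ, h, rfl⟩
    have h4 : IsSiegel q u₀ (act g⁻¹ w) μ := by
      have h5 := h.map g⁻¹
      rwa [act_inv_act] at h5
    have h5 : siegel hF (act g u₀) w μ h = g * siegel hF u₀ (act g⁻¹ w) μ h4 * g⁻¹ := by
      rw [conj_siegel]
      exact siegel_congr hF _ _ rfl (act_act_inv g w).symm rfl
    have h6 : siegel hF u₀ (act g⁻¹ w) μ h4 ∈ (P₀ : Subgroup (SU n F q)) := hP₀ ⟨_, _, h4, rfl⟩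
    rw [h5, ← hg]
    exact Subgroup.smul_mem_pointwise_smul _ (MulAut.conj g) _ h6
  refine ⟨act g u₀, hgu, fun h0 => hu00 ((act_eq_zero g).1 h0), ?_⟩
  have h4 : Q.relIndex (P₁ : Subgroup (SU n F q)) * Nat.card Q = Nat.card (P₁ : Subgroup (SU n F q)) := by
    rw [mul_comm, ← Nat.card_congr (Subgroup.subgroupOfEquivOfLe hP₁).toEquiv]
    exact Subgroup.card_mul_index _
  have h5 : Q.relIndex (sg hF (act g u₀) hgu) ≤ Q.relIndex (P₁ : Subgroup (SU n F q)) := by
    apply relIndex_le_of_le_right hle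
    intro h0
    rw [h0, zero_mul] at h4
    exact Nat.card_pos.ne h4
  rw [← P₁.card_eq_multiplicity]
  calc Q.relIndex (sg hF (act g u₀) hgu) * Nat.card Q
      ≤ Q.relIndex (P₁ : Subgroup (SU n F q)) * Nat.card Q := Nat.mul_le_mul_right _ h5
    _ = _ := h4

/-- linear functionals are products with vectors -/
theorem exists_herm_rep (hF : Fintype.card F = q ^ 2) (L : (Fin n → F) →ₗ[F] F) :
    ∃ w : Fin n → F, ∀ v, hermForm n F q v w = L v := by
  refine ⟨fun i => (L (Pi.single i 1)) ^ q, fun v => ?_⟩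
  rw [herm_def]
  have h1 : v = ∑ i, v i • (Pi.single i 1 : Fin n → F) := by
    funext j
    rw [Finset.sum_apply, Finset.sum_eq_single j]
    · simp
    · intro b _ hb
      simp [hb.symm]
    · simp
  conv_rhs => rw [h1]
  rw [map_sum]
  refine Finset.sum_congr rfl fun i _ => ?_
  rw [map_smul, pow_q_pow_q hF, smul_eq_mul]

omit [Fintype F] in
/-- functionals with given values on an independent family -/
theorem exists_functional {V : Type*} [AddCommGroup V] [Module F V] {ι : Type*} {x : ι → V}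
    (hli : LinearIndependent F x) (c : ι → F) : ∃ L : V →ₗ[F] F, ∀ i, L (x i) = c i := by
  obtain ⟨L, hL⟩ := LinearMap.exists_extend ((Finsupp.linearCombination F c).comp hli.repr)
  refine ⟨L, fun i => ?_⟩
  have h1 := LinearMap.congr_fun hL ⟨x i, Submodule.subset_span ⟨i, rfl⟩⟩
  rw [LinearMap.comp_apply, Submodule.subtype_apply] at h1
  have h2 := hli.repr_eq_single i ⟨x i, Submodule.subset_span ⟨i, rfl⟩⟩ rfl
  refine h1.trans ?_
  rw [LinearMap.comp_apply, h2, Finsupp.linearCombination_single, smul_eq_mul, one_mul]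

/-- **The index of the stabiliser of an independent family in the root group.** -/
theorem le_relIndex (hF : Fintype.card F = q ^ 2) {d : ℕ} (x : Fin (d + 1) → (Fin n → F))
    (hu : hermForm n F q (x 0) (x 0) = 0) (hx : ∀ i, hermForm n F q (x i) (x 0) = 0)
    (hli : LinearIndependent F x) (Q : Subgroup (SU n F q))
    (hQ : ∀ g ∈ Q ⊓ sg hF (x 0) hu, ∀ i, act g (x i) = x i) :
    (q ^ 2) ^ d ≤ Q.relIndex (sg hF (x 0) hu) := by
  classical
  have key : ∀ c : Fin d → F, ∃ g ∈ sg hF (x 0) hu, ∀ i : Fin d, act g (x i.succ) = x i.succ - c i • x 0 := by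
    intro c
    obtain ⟨L, hL⟩ := exists_functional hli (Fin.cons 0 c : Fin (d + 1) → F)
    obtain ⟨w, hw⟩ := exists_herm_rep hF L
    have hw0 : hermForm n F q w (x 0) = 0 := by
      apply herm_eq_zero_swap hF
      rw [hw, hL, Fin.cons_zero]
    obtain ⟨μ, hμ⟩ := exists_trace_eq hF (c := -hermForm n F q w w) (by
      rw [neg_pow_q hF, herm_self_pow hF])
    have hs : IsSiegel q (x 0) w μ := ⟨hu, hw0, by rw [hμ]; ring⟩
    refine ⟨siegel hF (x 0) w μ hs, ⟨_, _, hs, rfl⟩, fun i => ?_⟩
    rw [act_siegel, hx, hw, hL, Fin.cons_succ, zero_smul, mul_zero, zero_sub, add_zero, neg_smul, sub_eq_add_neg]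
  choose g hg hgx using key
  have h1 : Nat.card (Fin d → F) = (q ^ 2) ^ d := by
    rw [Nat.card_eq_fintype_card, Fintype.card_fun, Fintype.card_fin, hF]
  rw [← h1]
  have hx0 : x 0 ≠ 0 := hli.ne_zero 0
  refine Nat.card_le_card_of_injective
    (β := ↥(sg hF (x 0) hu) ⧸ (Q.subgroupOf (sg hF (x 0) hu)))
    (fun c => QuotientGroup.mk (⟨g c, hg c⟩ : ↥(sg hF (x 0) hu))) ?_
  intro c c' hcc
  have h2 := QuotientGroup.eq.1 hcc
  rw [mem_subgroupOf] at h2
  have h3 : (g c)⁻¹ * g c' ∈ Q ⊓ sg hF (x 0) hu := ⟨h2, Subgroup.mul_mem _ (Subgroup.inv_mem _ (hg c)) (hg c')⟩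
  funext i
  have h4 := hQ _ h3 i.succ
  rw [act_mul] at h4
  have h5 := congrArg (act (g c)) h4
  rw [act_act_inv, hgx, hgx] at h5
  have h6 : (c i - c' i) • x 0 = 0 := by
    rw [sub_smul]
    have : x i.succ - c' i • x 0 - (x i.succ - c i • x 0) = 0 := by rw [h5, sub_self]
    rw [← this]
    abel
  rcases smul_eq_zero.1 h6 with h7 | h7
  · exact sub_eq_zero.1 h7
  · exact absurd h7 hx0

omit [Fintype F] in
/-- families in a subspace, independent modulo a vector -/
theorem exists_family {V : Type*} [AddCommGroup V] [Module F V] [FiniteDimensional F V] {u : V} (hu : u ≠ 0)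
    (Z : Submodule F V) : ∀ d : ℕ, d + 1 ≤ finrank F Z →
      ∃ x : Fin (d + 1) → V, x 0 = u ∧ (∀ i, i ≠ 0 → x i ∈ Z) ∧ LinearIndependent F x := by
  intro d
  induction d with
  | zero =>
    intro _
    have : Subsingleton (Fin (0 + 1)) := Fin.subsingleton_one
    refine ⟨fun _ => u, rfl, fun i hi => absurd (Subsingleton.elim i 0) hi, ?_⟩
    exact LinearIndependent.of_subsingleton 0 hu
  | succ d ih =>
    intro hd
    obtain ⟨x, hx0, hxZ, hli⟩ := ih (by omega)
    have h1 : ¬ Z ≤ Submodule.span F (Set.range x) := by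
      intro hle
      have h2 := Submodule.finrank_mono hle
      have h3 := finrank_span_eq_card hli
      rw [Fintype.card_fin] at h3
      omega
    obtain ⟨z, hz, hzs⟩ := SetLike.not_le_iff_exists.1 h1
    refine ⟨Fin.snoc x z, ?_, ?_, ?_⟩
    · rw [← hx0]
      exact Fin.snoc_castSucc (α := fun _ => V) z x 0
    · intro i hi
      refine Fin.lastCases ?_ ?_ i (motive := fun i => i ≠ 0 → (Fin.snoc x z : Fin (d + 1 + 1) → V) i ∈ Z) hi
      · intro _
        rw [Fin.snoc_last]
        exact hz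
      · intro j hj
        rw [Fin.snoc_castSucc]
        apply hxZ
        rintro rfl
        exact hj rfl
    · rw [linearIndependent_finSnoc]
      exact ⟨hli, hzs⟩

/-- the vectors fixed by a subgroup -/
def FxV (Q : Subgroup (SU n F q)) : Submodule F (Fin n → F) where
  carrier := {v | ∀ g ∈ Q, act g v = v}
  add_mem' := fun {u v} hu hv g hg => by rw [act_add, hu g hg, hv g hg]
  zero_mem' := fun g _ => act_zero g
  smul_mem' := fun c v hv g hg => by rw [act_smul, hv g hg]

omit [Fintype F] in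
theorem mem_FxV {Q : Subgroup (SU n F q)} {v : Fin n → F} : v ∈ FxV Q ↔ ∀ g ∈ Q, act g v = v := Iff.rfl

omit [Fintype F] in
theorem FxV_anti {Q Q' : Subgroup (SU n F q)} (h : Q ≤ Q') : FxV Q' ≤ FxV Q := fun _ hv g hg => hv g (h hg)

/-- the vectors orthogonal to `u` -/
def pp (q : ℕ) (u : Fin n → F) : Submodule F (Fin n → F) := hermPerp q {u}

omit [Fintype F] in
theorem mem_pp {u v : Fin n → F} : v ∈ pp q u ↔ hermForm n F q v u = 0 := by
  rw [pp, mem_hermPerp]
  simp

theorem finrank_pp (hF : Fintype.card F = q ^ 2) {u : Fin n → F} (hu : u ≠ 0) : finrank F (pp q u) + 1 = n := by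
  obtain ⟨v, hv⟩ := exists_herm_ne_zero hF hu
  have h1 : pp q u = LinearMap.ker (hermLeft q u) := by
    ext w
    rw [mem_pp, LinearMap.mem_ker]
    rfl
  have h2 := LinearMap.finrank_range_add_finrank_ker (hermLeft (n := n) q u)
  have h3 : finrank F (LinearMap.range (hermLeft (n := n) q u)) = 1 := by
    have h4 : hermLeft (n := n) q u ≠ 0 := by
      intro h0
      have h5 := LinearMap.congr_fun h0 v
      apply hv
      first
        | exact h5
        | exact herm_eq_zero_swap hF h5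
    rw [LinearMap.range_eq_top.2 (LinearMap.surjective h4), finrank_top, finrank_self]
  rw [h1, finrank_fin_fun] at *
  omega

/-- **The fixed vectors of a large subgroup of a root group are orthogonal to the centre of the root group.** -/
theorem orth_of_fix (hF : Fintype.card F = q ^ 2) {u : Fin n → F} (hn : 2 ≤ n)
    (hu : hermForm n F q u u = 0) (hu0 : u ≠ 0) (Q : Subgroup (SU n F q))
    (hQ : Q.relIndex (sg hF u hu) < (q ^ 2) ^ (n - 2)) {x : Fin n → F} (hx : x ∈ FxV (Q ⊓ sg hF u hu)) :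
    hermForm n F q x u = 0 := by
  by_contra h0
  have h1 : ∀ g ∈ Q ⊓ sg hF u hu, ∀ y : Fin n → F, hermForm n F q y u = 0 → act g y = y := by
    intro g hg y hy
    obtain ⟨w, μ, h, rfl⟩ := (mem_sg hF hu).1 hg.2
    have h2 := hx _ hg
    rw [act_siegel, add_assoc, add_eq_left] at h2
    have h3 : w = -((hermForm n F q x u)⁻¹ * (μ * hermForm n F q x u - hermForm n F q x w)) • u := by
      have h4 := congrArg (fun v => (hermForm n F q x u)⁻¹ • v) h2
      simp only [smul_add, smul_smul, inv_mul_cancel₀ h0, one_smul, smul_zero] at h4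
      rw [neg_smul]
      exact eq_neg_of_add_eq_zero_left h4
    rw [act_siegel, hy, h3, herm_smul_right, hy]
    simp
  have hfin := finrank_pp hF hu0
  obtain ⟨y, hy0, hyZ, hli⟩ := exists_family hu0 (pp q u) (n - 2) (by omega)
  subst hy0
  have hy : ∀ i, hermForm n F q (y i) (y 0) = 0 := by
    intro i
    by_cases hi : i = 0
    · rw [hi, hu]
    · exact mem_pp.1 (hyZ i hi)
  have := le_relIndex hF y hu hy hli Q (fun g hg i => h1 g hg _ (hy i))
  omega

/-- **The dimension of the fixed space of a large `p`-subgroup.** -/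
theorem card_le_of_finrank (hF : Fintype.card F = q ^ 2) {p : ℕ} [hp : Fact p.Prime] [CharP F p]
    (Q : Subgroup (SU n F q)) (hQ : IsPGroup p Q) {d : ℕ} (hd : d + 2 ≤ n) (hdim : d + 1 ≤ finrank F (FxV Q)) :
    (q ^ 2) ^ d * Nat.card Q ≤ p ^ (Nat.card (SU n F q)).factorization p := by
  obtain ⟨u, hu, hu0, hle⟩ := exists_root hF (by omega) Q hQ
  refine (Nat.mul_le_mul_right _ ?_).trans hle
  by_cases h1 : Q.relIndex (sg hF u hu) < (q ^ 2) ^ (n - 2)
  · have h2 : ∀ x ∈ FxV Q, hermForm n F q x u = 0 := fun x hx =>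
      orth_of_fix hF (by omega) hu hu0 Q h1 (FxV_anti inf_le_left hx)
    obtain ⟨y, hy0, hyZ, hli⟩ := exists_family hu0 (FxV Q) d hdim
    subst hy0
    have hy : ∀ i, hermForm n F q (y i) (y 0) = 0 := by
      intro i
      by_cases hi : i = 0
      · rw [hi, hu]
      · exact h2 _ (hyZ i hi)
    refine le_relIndex hF y hu hy hli Q (fun g hg i => ?_)
    by_cases hi : i = 0
    · rw [hi]
      obtain ⟨w, μ, h, rfl⟩ := (mem_sg hF hu).1 hg.2
      exact act_siegel_self hF h
    · exact hyZ i hi g hg.1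
  · refine le_trans ?_ (not_lt.1 h1)
    exact Nat.pow_le_pow_right (pow_pos (q_pos hF) _) (by omega)

end Cfsg.Agent.H715.PDU
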