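import Cfsg.Agent.H715.PDU.RowTwo

/-!
# Row PSU of S4246: `n` an odd prime, elements of type `n`; `PSU 4 F 2`
-/

set_option autoImplicit false

namespace Cfsg.Agent.H715.PDU

open Cfsg Module Matrix Subgroup
open Cfsg.Agent.LieClassical.HermBasic Cfsg.Agent.LieClassical.HermSiegel
open Cfsg.Agent.ClassicalGeometry.HermOrtho
open Cfsg.Agent.ClassicalGeometry.PSUAutBasic (pr pr_surjective pr_eq_one_iff exists_center_mul)
open Cfsg.Agent.ClassicalGeometry.PSUAutCount (gm gm_mul gm_one semiConj toAut toAut_pr act_semiConj)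
open Cfsg.Agent.CpAutU.Desc (toAut_mul toAut_one)
open Cfsg.Agent.GpUn
open Cfsg.Agent.H173.RU
open Cfsg.Agent.H160.PD

variable {F : Type*} [Field F] [Fintype F] {q n l k : ℕ}

/-! ### lifts of elements of order prime to `n` -/

theorem center_pow_n (hF : Fintype.card F = q ^ 2) (hn : 3 ≤ n) {z : SU n F q} (hz : z ∈ center (SU n F q)) :
    z ^ n = 1 := by
  have h1 : (⟨z, hz⟩ : center (SU n F q)) ^ Nat.gcd n (q + 1) = 1 := by
    rw [← Cfsg.Agent.S0279.result hF n hn]
    exact pow_card_eq_one'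
  have h2 : z ^ Nat.gcd n (q + 1) = 1 := congrArg Subtype.val h1
  obtain ⟨c, hc⟩ := Nat.gcd_dvd_left n (q + 1)
  have h3 : z ^ n = z ^ (Nat.gcd n (q + 1) * c) := by rw [← hc]
  rw [h3, pow_mul, h2, one_pow]

theorem eq_one_of_center' (hF : Fintype.card F = q ^ 2) (hn : 3 ≤ n) (hl : l.Coprime n)
    {z : SU n F q} (hz : z ∈ center (SU n F q)) (hzl : z ^ l = 1) : z = 1 := by
  have h3 : orderOf z ∣ Nat.gcd l n := Nat.dvd_gcd (orderOf_dvd_of_pow_eq_one hzl)
    (orderOf_dvd_of_pow_eq_one (center_pow_n hF hn hz))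
  rw [hl] at h3
  exact orderOf_eq_one_iff.1 (Nat.dvd_one.1 h3)

theorem eq_of_pr_eq' (hF : Fintype.card F = q ^ 2) (hn : 3 ≤ n) (hl : l.Coprime n) {y y' : SU n F q}
    (hy : y ^ l = 1) (hy' : y' ^ l = 1) (h : pr n F q y = pr n F q y') : y = y' := by
  obtain ⟨z, hz, hz1⟩ := exists_center_mul h
  have hzc : Commute y z := (mem_center_iff.1 hz) y
  have h1 : y' = y * z := hz1
  have h2 : z ^ l = 1 := by
    rw [h1, hzc.mul_pow, hy, one_mul] at hy'
    exact hy'
  have h3 := eq_one_of_center' hF hn hl hz h2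
  rw [h1, h3, mul_one]

/-- An element of `PSU` of order prime to `n` fixed by a linear automorphism lifts to an element commuting with the
matrix. -/
theorem exists_com_n (hF : Fintype.card F = q ^ 2) (hn : 3 ≤ n) (hl : l.Coprime n) {A : GU n F q}
    {z : PSU n F q} (hz : z ^ l = 1) (hz1 : z ≠ 1) (hfix : toAut A 1 z = z) :
    ∃ y : SU n F q, y ^ l = 1 ∧ y ≠ 1 ∧ Com A y := by
  obtain ⟨g, rfl⟩ := pr_surjective z
  have h1 : g ^ l ∈ center (SU n F q) := by
    rw [← pr_eq_one_iff, map_pow]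
    exact hz
  obtain ⟨j, hj1, hj2⟩ := Nat.chineseRemainder hl 1 0
  have hy : (g ^ j) ^ l = 1 := by
    rw [← pow_mul, mul_comm, pow_mul]
    obtain ⟨k, hk⟩ := (Nat.modEq_zero_iff_dvd.1 hj2)
    rw [hk, pow_mul, center_pow_n hF hn h1, one_pow]
  have hpr : pr n F q (g ^ j) = pr n F q g := by
    rw [map_pow]
    have h3 : pr n F q g ^ j = pr n F q g ^ 1 := by
      rw [pow_eq_pow_iff_modEq]
      exact hj1.of_dvd (orderOf_dvd_of_pow_eq_one hz)
    rw [h3, pow_one]
  refine ⟨g ^ j, hy, fun h0 => hz1 (by rw [← hpr, h0, map_one]), fun v => ?_⟩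
  have h4 : pr n F q (semiConj A 1 (g ^ j)) = pr n F q (g ^ j) := by
    have : toAut A 1 (pr n F q (g ^ j)) = pr n F q (g ^ j) := by rw [hpr, hfix]
    exact this
  have h2 : semiConj A 1 (g ^ j) = g ^ j := by
    refine eq_of_pr_eq' hF hn hl ?_ hy h4
    rw [← map_pow, hy, map_one]
  have h3 := act_semiConj A 1 (g ^ j) v
  rw [h2] at h3
  exact h3.symm

/-! ### `n` an odd prime -/

/-- the elements commuting with a non-scalar matrix which commutes with an element of type `n` -/
theorem fx_eq_bot_of_com (h : Ty q l n) (hF : Fintype.card F = q ^ 2) (hn : n.Prime) (hn3 : 3 ≤ n) {y : SU n F q}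
    (hy : y ^ l = 1) (hy1 : y ≠ 1) {A : GU n F q} (hA : Com A y) (hA1 : toAut A 1 ≠ 1) {g : SU n F q}
    (hg : Com A g) (hg1 : g ≠ 1) : fx g = ⊥ := by
  have hodd : Odd n := hn.odd_of_ne_two (by omega)
  rw [← Submodule.finrank_eq_zero (R := F)]
  by_contra h0
  have hle := Submodule.finrank_le (fx g)
  rw [finrank_fin_fun] at hle
  have hne : finrank F (fx g) ≠ n := by
    intro h1
    apply hg1
    apply eq_one_of_top
    intro w
    have h3 : fx g = ⊤ := by
      apply Submodule.eq_top_of_finrank_eq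
      rw [h1, finrank_fin_fun]
    have h4 : w ∈ fx g := by rw [h3]; trivial
    exact h4
  apply hA1
  apply h.scalar_of_inv hF hn3 hodd hy hy1 hA (fx g) hg.fx_inv
  rw [Nat.Prime.coprime_iff_not_dvd hn]
  intro hd
  have := Nat.le_of_dvd (Nat.pos_of_ne_zero h0) hd
  omega

/-- no elements of order `p` -/
theorem no_p (h : Ty q l n) (hF : Fintype.card F = q ^ 2) (hn : n.Prime) (hn3 : 3 ≤ n) {p f : ℕ} [hp : Fact p.Prime]
    [CharP F p] (hf : f ≠ 0) (hq : q = p ^ f) {A : GU n F q} (hA1 : toAut A 1 ≠ 1)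
    {x : PSU n F q} (hx : orderOf x = l) (hbx : toAut A 1 x = x) : v p (Fx (toAut A 1)) = 0 := by
  apply v_eq_zero
  intro hd
  obtain ⟨z, hz, hzo⟩ := Cfg.exists_mem hp.1 hd
  obtain ⟨y, hy, hy1, hA⟩ := exists_com' h hF hn3 (by omega) hx hbx
  have hcop : p.Coprime (q + 1) := by
    have := coprime_pow_succ hp.1 hf hq 1
    rwa [pow_one] at this
  obtain ⟨g, hg, hg1, hAg⟩ := exists_com hF hn3 hcop (z := z) (by rw [← hzo]; exact pow_orderOf_eq_one z) (by
    rintro rfl
    rw [orderOf_one] at hzo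
    exact hp.1.one_lt.ne hzo) hz
  have h1 := fx_eq_bot_of_com h hF hn hn3 hy hy1 hA hA1 hAg hg1
  obtain ⟨v, -, hv0, hv⟩ := exists_fixed hF (zpowers g) (isPGroup_zpowers (orderOf_eq_prime hg hg1)) ⊤
    (fun _ _ _ _ => Submodule.mem_top) (by
      intro h3
      have h4 : finrank F (⊤ : Submodule F (Fin n → F)) = 0 := by rw [h3]; exact finrank_bot F _
      rw [finrank_top, finrank_fin_fun] at h4
      omega)
  apply hv0
  have h2 : v ∈ fx g := hv g (mem_zpowers g)
  rwa [h1, Submodule.mem_bot] at h2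

/-- no involutions -/
theorem no_two (h : Ty q l n) (hF : Fintype.card F = q ^ 2) (hn : n.Prime) (hn3 : 3 ≤ n) (hq2 : (2 : F) ≠ 0)
    {A : GU n F q} (hA1 : toAut A 1 ≠ 1)
    {x : PSU n F q} (hx : orderOf x = l) (hbx : toAut A 1 x = x) : v 2 (Fx (toAut A 1)) = 0 := by
  have hodd : Odd n := hn.odd_of_ne_two (by omega)
  apply v_eq_zero
  intro hd
  obtain ⟨z, hz, hzo⟩ := Cfg.exists_mem Nat.prime_two hd
  obtain ⟨y, hy, hy1, hA⟩ := exists_com' h hF hn3 (by omega) hx hbx
  obtain ⟨g, hg, hg1, hAg⟩ := exists_com_n hF hn3 (Nat.coprime_two_left.2 hodd) (z := z)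
    (by rw [← hzo]; exact pow_orderOf_eq_one z) (by
    rintro rfl
    rw [orderOf_one] at hzo
    omega) hz
  have h1 := fx_eq_bot_of_com h hF hn hn3 hy hy1 hA hA1 hAg hg1
  have h2 : ∀ v, act g v = -v := by
    intro v
    have h3 : act g v + v ∈ fx g := by
      rw [mem_fx, act_add, ← act_mul, ← pow_two, hg, act_one, add_comm]
    rw [h1, Submodule.mem_bot] at h3
    exact eq_neg_of_add_eq_zero_left h3
  have h3 : mat g = -1 := by
    apply Matrix.ext_of_mulVec_single
    intro i
    rw [← act_def, h2, neg_mulVec, one_mulVec]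
  have h4 := det_mat g
  rw [h3, det_neg, det_one, mul_one, Fintype.card_fin, hodd.neg_one_pow] at h4
  apply hq2
  linear_combination -h4

/-- conjugation by an element of `PSU` -/
theorem exists_toAut_conj (hF : Fintype.card F = q ^ 2) (s : PSU n F q) :
    ∃ A : GU n F q, MulAut.conj s = toAut A 1 := by
  obtain ⟨g, rfl⟩ := pr_surjective s
  exact ⟨Cfsg.Agent.LieClassical.GUOrder.mkGU hF (mat g) (fun u v => herm_act g u v),
    (Cfsg.Agent.Schreier.PSU.f₁_eq_conj _ g rfl).symm⟩

theorem v_centralizer_eq {S : Type*} [Group S] (s : S) (p : ℕ) :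
    v p (centralizer ({s} : Set S)) = v p (Fx (MulAut.conj s)) := by
  have : centralizer ({s} : Set S) = Fx (MulAut.conj s) := by
    ext x
    rw [mem_centralizer_singleton_iff, mem_Fx, MulAut.conj_apply, mul_inv_eq_iff_eq_mul]
    exact eq_comm
  rw [this]

/-- **The involutions.** -/
theorem inv_bound (hF : Fintype.card F = q ^ 2) (hn : 3 ≤ n) (h32 : ¬ (n = 3 ∧ q = 2)) {p f : ℕ} [hp : Fact p.Prime]
    [CharP F p] (hp2 : p ≠ 2) (hf : f ≠ 0) (hq : q = p ^ f) {s : PSU n F q} (hs : orderOf s = 2) :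
    v p (centralizer ({s} : Set (PSU n F q))) + 2 * f ≤ v p (PSU n F q) := by
  rw [v_centralizer_eq]
  have hinj := conj_injective (center_PSU (n := n) hF hn h32)
  obtain ⟨A, hA⟩ := exists_toAut_conj (n := n) hF s
  rw [hA]
  refine lin_bound hF hn hf hq (j := 2) ((Nat.coprime_primes Nat.prime_two hp.1).2 (Ne.symm hp2)) ?_ ?_
  · rw [← hA, ← map_pow, ← hs, pow_orderOf_eq_one, map_one]
  · rw [← hA]
    intro h0
    have h1 : s = 1 := hinj (by rw [h0, map_one])
    rw [h1, orderOf_one] at hs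
    omega

/-- **`n` an odd prime.** -/
theorem row_prime (hF : Fintype.card F = q ^ 2) (hn : n.Prime) (hn3 : 3 ≤ n) (h32 : ¬ (n = 3 ∧ q = 2)) :
    Row (PSU n F q) := by
  have hq2 := two_le hF
  obtain ⟨p, f, hp, hch, hqr, hf1⟩ := exists_prime_pow hF
  have hpF := Fact.mk hp
  have hf : f ≠ 0 := by omega
  have hodd : Odd n := hn.odd_of_ne_two (by omega)
  have hZ := center_PSU (n := n) hF hn3 h32
  have h3f := three_f_le hF hn3 hp hf hqr
  have hk0 : n = n ∨ n + 1 = n := Or.inl rfl
  obtain ⟨r, h, hord, hr, -⟩ := exists_odd hp hf1 hqr hodd hn3 (by omega)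
  have hlin := fun (b : MulAut (PSU n F q)) hb hb2 (x : PSU n F q) (hx : orderOf x = r) (hbx : b x = x) =>
    linear_of_fix h hF hn3 h32 hn3 (by omega) hp hf hqr hord b hb hb2 hx hbx
  have hne1 : ∀ A : GU n F q, (orderOf (toAut A 1)).Prime → toAut A 1 ≠ 1 := by
    intro A hb h0
    rw [h0, orderOf_one] at hb
    exact Nat.not_prime_one hb
  -- the prime `2`
  have h2F : p ≠ 2 → (2 : F) ≠ 0 := by
    intro hp2
    have h1 := natCast_ne_zero (F := F) hF Nat.prime_two (by
      rw [hqr]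
      intro h2
      exact hp2 ((Nat.prime_dvd_prime_iff_eq Nat.prime_two hp).1 (Nat.prime_two.dvd_of_dvd_pow h2)).symm)
    exact_mod_cast h1
  have hgcd2 : (Nat.gcd n (q + 1)).factorization 2 = 0 := by
    apply Nat.factorization_eq_zero_of_not_dvd
    intro h2
    have h3 := h2.trans (Nat.gcd_dvd_left _ _)
    obtain ⟨a, ha⟩ := hodd
    omega
  have htwo : p ≠ 2 → (tor q n).factorization 2 + (out (PSU n F q)).factorization 2 < v 2 (PSU n F q) := by
    intro hp2
    have h1 := v_SU_ge hF (by omega : 1 ≤ n) 2 {2, n} (by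
      intro m hm
      simp only [Finset.mem_insert, Finset.mem_singleton] at hm
      rw [Finset.mem_Icc]
      omega)
    rw [Finset.sum_insert (by simp only [Finset.mem_singleton]; omega), Finset.sum_singleton] at h1
    have h2 := v_add hF hn3 2
    have h3 := lte_two hp hp2 hf hqr
    rw [out_fact hF hn3 h32 hp hf hqr]
    omega
  have hout : p ≠ 2 → n.factorization p + (out (PSU n F q)).factorization p < 2 * f := by
    intro hp2
    have h3 : (out (PSU n F q)).factorization p < f := by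
      rw [out_fact hF hn3 h32 hp hf hqr, gcd_fact_p hp hf hqr, zero_add,
        Nat.factorization_mul two_ne_zero hf, Finsupp.add_apply, Nat.prime_two.factorization,
        Finsupp.single_eq_of_ne (fun h => hp2 h), zero_add]
      exact Nat.factorization_lt _ hf
    have h4 : n.factorization p ≤ 1 := by
      rw [hn.factorization]
      by_cases h5 : p = n
      · rw [h5, Finsupp.single_eq_same]
      · rw [Finsupp.single_eq_of_ne h5]
        omega
    omega
  refine One.row hZ (p := p) (r := r) (c := 0) (e := 0) (m := n.factorization p) ?_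
  refine
    { prime := hp
      good := good h hF hn3 h32 hp hf hqr (by omega) le_rfl
      cent := fun x hx => (v_cent_p h hF hn3 hk0 hn3 hp hf hqr hx).le
      reg := fun b hb hb2 hbp x hx hbx => ?_
      syl := fun b hb hb2 hbp => by
        have := syl_all hF hn3 h32 hf hqr b hb hb2 hbp
        rw [max_self, add_zero]
        exact this
      odd := fun _ H hH hrH => by
        have := odd_of h hF hn3 hk0 hn3 hf hqr H hH hrH
        rwa [if_neg (Nat.not_even_iff_odd.2 hodd), zero_add] at this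
      inv := fun hp2 s hs => by
        have h1 := inv_bound hF hn3 h32 hp2 hf hqr hs
        have h2 := hout hp2
        rw [Nat.max_zero]
        omega
      two₀ := fun hp2 x hx => by
        have h1 := v_cent h hF hn3 hk0 hn3 hx 2
        have h2 := htwo hp2
        omega
      two₁ := fun hp2 b hb hb2 x hx hbx => ?_ }
  · obtain ⟨A, rfl⟩ := hlin b hb hb2 x hx hbx
    exact (no_p h hF hn hn3 hf hqr (hne1 A hb) hx hbx).le
  · obtain ⟨A, rfl⟩ := hlin b hb hb2 x hx hbx
    rw [no_two h hF hn hn3 (h2F hp2) (hne1 A hb) hx hbx]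
    have h2 := htwo hp2
    omega

end Cfsg.Agent.H715.PDU
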