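import Cfsg.Agent.H715.PDU.Num

/-!
# Row PSU of S4246: composite `n`, elements of type `n` and `n - 1`
-/

set_option autoImplicit false

namespace Cfsg.Agent.H715.PDU

open Cfsg Module Matrix Subgroup
open Cfsg.Agent.LieClassical.HermBasic Cfsg.Agent.LieClassical.HermSiegel
open Cfsg.Agent.ClassicalGeometry.HermOrtho
open Cfsg.Agent.ClassicalGeometry.PSUAutBasic (pr pr_surjective pr_eq_one_iff exists_center_mul)
open Cfsg.Agent.ClassicalGeometry.PSUAutCount (gm gm_mul gm_one toAut)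
open Cfsg.Agent.CpAutU.Desc (toAut_mul toAut_one)
open Cfsg.Agent.GpUn
open Cfsg.Agent.H173.RU
open Cfsg.Agent.H160.PD

variable {F : Type*} [Field F] [Fintype F] {q n l k : ℕ}

theorem three_le_N (hn : 3 ≤ n) : 3 ≤ n * (n - 1) / 2 := by
  have h1 : 3 * 2 ≤ n * (n - 1) := Nat.mul_le_mul hn (by omega)
  omega

theorem three_f_le (hF : Fintype.card F = q ^ 2) (hn : 3 ≤ n) {p f : ℕ} (hp : p.Prime) (hf : f ≠ 0)
    (hq : q = p ^ f) : 3 * f ≤ v p (PSU n F q) := by
  rw [v_PSU hF hn hp hf hq, mul_comm]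
  exact Nat.mul_le_mul_left _ (three_le_N hn)

/-- **All the automorphisms of odd prime order, not the characteristic.** -/
theorem syl_all (hF : Fintype.card F = q ^ 2) (hn : 3 ≤ n) (h32 : ¬ (n = 3 ∧ q = 2)) {p f : ℕ} [hp : Fact p.Prime]
    [CharP F p] (hf : f ≠ 0) (hq : q = p ^ f) (b : MulAut (PSU n F q)) (hb : (orderOf b).Prime)
    (hb2 : orderOf b ≠ 2) (hbp : orderOf b ≠ p) :
    v p (Fx b) + (out (PSU n F q)).factorization p < v p (PSU n F q) := by
  have h3 := three_f_le hF hn hp.1 hf hq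
  have ho := out_fact_p hF hn h32 hp.1 hf hq
  have hb1 : b ^ orderOf b = 1 := pow_orderOf_eq_one b
  obtain ⟨A, ρ, rfl⟩ := Cfsg.Agent.ClassicalGeometry.PSUAutMain.exists_toAut hF hn h32 b
  by_cases hρ : ρ = 1
  · subst hρ
    have h1 := lin_bound hF hn hf hq ((Nat.coprime_primes hb hp.1).2 hbp) hb1 (fun h0 => by
      rw [h0, orderOf_one] at hb
      exact Nat.not_prime_one hb)
    omega
  · have h1 := fld_bound hF hn hf hq hb hb2 hb1 hρ
    omega

theorem ne_two_of_ty (h : Ty q l k) (hk : 2 ≤ k) : l ≠ 2 := by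
  rintro rfl
  have h1 : ∀ z : ZMod 2, z = 0 ∨ z = 1 := by decide
  have h2 := h.ord
  rcases h1 (-(q : ZMod 2)) with h3 | h3
  · apply h.not_dvd
    rw [neg_eq_zero] at h3
    exact (ZMod.natCast_eq_zero_iff q 2).1 h3
  · rw [h3, orderOf_one] at h2
    omega

theorem ne_p_of_ty (h : Ty q l k) {p f : ℕ} (hf : f ≠ 0) (hq : q = p ^ f) : l ≠ p := by
  rintro rfl
  exact h.not_dvd (by rw [hq]; exact dvd_pow_self l hf)

/-- primes of type `≥ 2` are good -/
theorem out_lt (h : Ty q l k) (hF : Fintype.card F = q ^ 2) (hn : 3 ≤ n) (h32 : ¬ (n = 3 ∧ q = 2)) {p f : ℕ}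
    (hp : p.Prime) (hf : f ≠ 0) (hq : q = p ^ f) (hk : 2 ≤ k) (hkn : k ≤ n) (hl2 : l ≠ 2) :
    (out (PSU n F q)).factorization l < v l (PSU n F q) := by
  have hq2 := two_le hF
  have h1 := v_add hF hn l
  have h2 : (Nat.gcd n (q + 1)).factorization l = 0 := by
    apply Nat.factorization_eq_zero_of_not_dvd
    exact fun h0 => h.not_dvd_succ (by omega) hk (h0.trans (Nat.gcd_dvd_right _ _))
  have h3 := lte hp hf hq h.prime hl2 (by omega) ((dvd_tor h (by omega) (m := k) (by omega)).2 dvd_rfl)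
  have h4 := v_SU_ge hF (by omega : 1 ≤ n) l {k} (by
    intro m hm
    rw [Finset.mem_singleton] at hm
    rw [Finset.mem_Icc]
    omega)
  rw [Finset.sum_singleton] at h4
  rw [out_fact hF hn h32 hp hf hq]
  omega

theorem good (h : Ty q l k) (hF : Fintype.card F = q ^ 2) (hn : 3 ≤ n) (h32 : ¬ (n = 3 ∧ q = 2)) {p f : ℕ}
    (hp : p.Prime) (hf : f ≠ 0) (hq : q = p ^ f) (hk : 2 ≤ k) (hkn : k ≤ n) : Good (PSU n F q) l :=
  ⟨h.prime, ne_two_of_ty h hk, out_lt h hF hn h32 hp hf hq hk hkn (ne_two_of_ty h hk)⟩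

/-! ### `p`-subgroups normalised by elements of type `n`, `n - 1` -/

theorem v_norm_odd (h : Ty q l k) (hF : Fintype.card F = q ^ 2) (hn : 3 ≤ n) (hk : k = n ∨ k + 1 = n) (hk3 : 3 ≤ k)
    (hodd : Odd k) {p : ℕ} [hp : Fact p.Prime] [CharP F p] {X : Subgroup (PSU n F q)} (hX : IsPGroup p X)
    {x : PSU n F q} (hx : orderOf x = l) (hxX : x ∈ normalizer (X : Set (PSU n F q))) : v p X = 0 := by
  obtain ⟨y, hy, hy1, rfl⟩ := exists_lift h hF hn (by omega) hx
  have h1 := h.noNorm (p := p) hF hodd (by omega) (by omega) hy hy1 X hX hxX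
  rw [h1, v, Subgroup.card_bot, Nat.factorization_one, Finsupp.zero_apply]

/-- the fixed space of a `p`-group normalised by an element of even type -/
theorem finrank_FxV (h : Ty q l k) (hF : Fintype.card F = q ^ 2) (hn : 3 ≤ n) (hk : k = n ∨ k + 1 = n) (hk3 : 3 ≤ k)
    {p : ℕ} [hp : Fact p.Prime] [CharP F p] {P : Subgroup (SU n F q)} (hP : IsPGroup p P)
    {y : SU n F q} (hy : y ^ l = 1) (hy1 : y ≠ 1) (hyP : y ∈ normalizer (P : Set (SU n F q))) :
    k ≤ 2 * finrank F (FxV P) := by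
  have hinv : ∀ u ∈ FxV P, act y u ∈ FxV P := by
    intro u hu g hg
    have h1 : y⁻¹ * g * y ∈ P := by
      have h2 := (mem_normalizer_iff.1 (inv_mem hyP) g).1 hg
      rwa [inv_inv] at h2
    have h2 := hu _ h1
    have h3 : g * y = y * (y⁻¹ * g * y) := by group
    rw [← act_mul, h3, act_mul, h2]
  have hl0 := natCast_ne_zero (F := F) hF h.prime h.not_dvd
  have hnd := nd_fx hF hl0 hy
  have hle := h.le_sub hF hy hy1
  have hperp := finrank_perp hF hnd
  have key : ∀ Z : Submodule F (Fin n → F), (∀ u ∈ Z, act y u ∈ Z) → Z ⊓ fx y = ⊥ → Z ≠ ⊥ → k ≤ 2 * finrank F Z := by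
    intro Z hZ h0 hZ0
    have h1 := h.dvd_two_mul hF hy Z hZ h0
    have h2 : finrank F Z ≠ 0 := fun h3 => hZ0 (Submodule.finrank_eq_zero.1 h3)
    exact Nat.le_of_dvd (by omega) h1
  by_cases h0 : FxV P ⊓ fx y = ⊥
  · apply key _ hinv h0
    intro h1
    obtain ⟨v, -, hv0, hv⟩ := exists_fixed hF P hP ⊤ (fun _ _ _ _ => Submodule.mem_top) (by
      intro h3
      have h4 : finrank F (⊤ : Submodule F (Fin n → F)) = 0 := by rw [h3]; exact finrank_bot F _
      rw [finrank_top, finrank_fin_fun] at h4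
      omega)
    apply hv0
    have h2 : v ∈ FxV P := hv
    rwa [h1, Submodule.mem_bot] at h2
  · -- the line `fx y` is fixed by `P`
    have h1 : fx y ≤ FxV P := by
      have h2 : FxV P ⊓ fx y = fx y := by
        apply Submodule.eq_of_le_of_finrank_le inf_le_right
        have h4 : finrank F ↥(FxV P ⊓ fx y) ≠ 0 := fun h5 => h0 (Submodule.finrank_eq_zero.1 h5)
        omega
      rw [← h2]
      exact inf_le_left
    set W := hermPerp q ((fx y : Submodule F (Fin n → F)) : Set (Fin n → F)) with hW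
    have hWP : ∀ g ∈ P, ∀ u ∈ W, act g u ∈ W := by
      intro g hg u hu
      apply act_perp _ hu
      intro w hw
      rw [h1 hw g⁻¹ (inv_mem hg)]
      exact hw
    have hWy : ∀ u ∈ W, act y u ∈ W := by
      intro u hu
      apply act_perp _ hu
      intro w hw
      have h2 := act_inv_act y w
      rw [mem_fx.1 hw] at h2
      rw [h2]
      exact hw
    obtain ⟨v, hvW, hv0, hv⟩ := exists_fixed hF P hP W hWP (by
      intro h3
      have h4 : finrank F W = 0 := by rw [h3]; exact finrank_bot F _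
      omega)
    have h2 := key (FxV P ⊓ W) (fun u hu => ⟨hinv u hu.1, hWy u hu.2⟩) (by
      rw [Submodule.eq_bot_iff]
      rintro u ⟨⟨-, h4⟩, h5⟩
      exact hnd u h5 h4) (by
      intro h3
      apply hv0
      have h4 : v ∈ FxV P ⊓ W := ⟨hv, hvW⟩
      rwa [h3, Submodule.mem_bot] at h4)
    have h3 : finrank F ↥(FxV P ⊓ W) ≤ finrank F (FxV P) := Submodule.finrank_mono inf_le_left
    omega

theorem v_norm_even (h : Ty q l k) (hF : Fintype.card F = q ^ 2) (hn : 3 ≤ n) (hk : k = n ∨ k + 1 = n) (hk3 : 3 ≤ k)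
    (heven : Even k) {p f : ℕ} [hp : Fact p.Prime] [CharP F p] (hf : f ≠ 0) (hq : q = p ^ f)
    {X : Subgroup (PSU n F q)} (hX : IsPGroup p X)
    {x : PSU n F q} (hx : orderOf x = l) (hxX : x ∈ normalizer (X : Set (PSU n F q))) :
    v p X + f * (k - 2) ≤ v p (PSU n F q) := by
  obtain ⟨y, hy, hy1, rfl⟩ := exists_lift h hF hn (by omega) hx
  obtain ⟨P, hP, hPX, hPn⟩ := exists_lift_pgroup (pr n F q) pr_surjective ker_pr hX
  have h1 := finrank_FxV h hF hn hk hk3 hP hy hy1 (hPn y hxX)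
  obtain ⟨c, hc⟩ := heven
  have h2 := card_le_of_finrank hF P hP (d := c - 1) (by omega) (by omega)
  have h3 := (Nat.mul_le_mul_left ((q ^ 2) ^ (c - 1)) (card_le_lift hPX)).trans h2
  have h4 : (q ^ 2) ^ (c - 1) = p ^ (f * (k - 2)) := by
    rw [hq, ← pow_mul, ← pow_mul]
    congr 1
    have : k - 2 = 2 * (c - 1) := by omega
    rw [this]
  rw [h4] at h3
  have h5 : v p (PSU n F q) = v p (SU n F q) := by
    rw [v_PSU hF hn hp.1 hf hq, v_SU hF (by omega) hp.1 hf hq]
  obtain ⟨j, hj⟩ := IsPGroup.iff_card.1 hX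
  have h6 : v p X = j := by rw [v, hj, hp.1.factorization_pow, Finsupp.single_eq_same]
  have h7 : f * (k - 2) + j ≤ v p (SU n F q) := le_of_pow_card hp.1 hj h3
  omega

/-- **The subgroups of odd order.** -/
theorem odd_of (h : Ty q l k) (hF : Fintype.card F = q ^ 2) (hn : 3 ≤ n) (hk : k = n ∨ k + 1 = n) (hk3 : 3 ≤ k)
    {p f : ℕ} [hp : Fact p.Prime] [CharP F p] (hf : f ≠ 0) (hq : q = p ^ f)
    (H : Subgroup (PSU n F q)) (hH : Odd (Nat.card H)) (hlH : l ∣ Nat.card H) :
    v p H ≤ (if Even k then v p (PSU n F q) - f * (k - 2) else 0) + k.factorization p := by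
  refine odd_bound_of_uniq hp.1 h.prime (ne_p_of_ty h hf hq).symm (uniq h hF hn hk hk3) ?_ ?_ H hH hlH
  · intro X hX x hxX hx
    by_cases he : Even k
    · rw [if_pos he]
      have := v_norm_even h hF hn hk hk3 he hf hq hX hx hxX
      omega
    · rw [if_neg he]
      exact (v_norm_odd h hF hn hk hk3 (Nat.not_even_iff_odd.1 he) hX hx hxX).le
  · intro x hx
    exact v_norm_p h hF hn hk hk3 hp.1 hf hq hx

/-! ### `Inc` -/

/-- an automorphism of odd prime order fixing an element of odd type is linear -/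
theorem linear_of_fix (h : Ty q l k) (hF : Fintype.card F = q ^ 2) (hn : 3 ≤ n) (h32 : ¬ (n = 3 ∧ q = 2))
    (hk3 : 3 ≤ k) (hnk : n ≤ k + 1) {p f : ℕ} (hp : p.Prime) (hf : f ≠ 0) (hq : q = p ^ f)
    (hord : orderOf (p : ZMod l) = 2 * f * k) (b : MulAut (PSU n F q)) (hb : (orderOf b).Prime)
    (hb2 : orderOf b ≠ 2) {x : PSU n F q} (hx : orderOf x = l) (hbx : b x = x) : ∃ A : GU n F q, b = toAut A 1 := by
  obtain ⟨A, ρ, rfl⟩ := Cfsg.Agent.ClassicalGeometry.PSUAutMain.exists_toAut hF hn h32 b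
  by_cases hρ : ρ = 1
  · exact ⟨A, by rw [hρ]⟩
  · exfalso
    have hb3 : 3 ≤ orderOf (toAut A ρ) := by
      have := hb.two_le
      omega
    have h6 : 3 * k ≤ orderOf (toAut A ρ) * k := Nat.mul_le_mul_right _ hb3
    refine h.field_free hF hn (by omega) hp (by omega) hq hord hb hb2 (by omega) (pow_orderOf_eq_one _) hρ ?_ ?_ hbx
    · rw [← hx]; exact pow_orderOf_eq_one x
    · rintro rfl
      rw [orderOf_one] at hx
      exact h.prime.one_lt.ne hx

theorem exists_com' (h : Ty q l k) (hF : Fintype.card F = q ^ 2) (hn : 3 ≤ n) (hk : 2 ≤ k) {A : GU n F q}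
    {x : PSU n F q} (hx : orderOf x = l) (hbx : toAut A 1 x = x) : ∃ y : SU n F q, y ^ l = 1 ∧ y ≠ 1 ∧ Com A y := by
  have hq := two_le hF
  refine exists_com hF hn (h.coprime_succ (by omega) hk) ?_ ?_ hbx
  · rw [← hx]; exact pow_orderOf_eq_one x
  · rintro rfl
    rw [orderOf_one] at hx
    exact h.prime.one_lt.ne hx

theorem inc_even {r₀ r₁ : ℕ} (h0 : Ty q r₀ n) (h1 : Ty q r₁ (n - 1)) (hF : Fintype.card F = q ^ 2) (hn : 4 ≤ n)
    (hodd : Odd (n - 1)) {p f : ℕ} (hp : p.Prime) (hf : f ≠ 0) (hq : q = p ^ f)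
    (hord : orderOf (p : ZMod r₁) = 2 * f * (n - 1)) : Inc (PSU n F q) r₀ r₁ := by
  intro b hb hb2 x hx hbx y hy hby
  obtain ⟨A, rfl⟩ := linear_of_fix h1 hF (by omega) (by omega) (by omega) (by omega) hp hf hq hord b hb hb2 hy hby
  obtain ⟨x', hx1, hx2, hx3⟩ := exists_com' h0 hF (by omega) (by omega) hx hbx
  obtain ⟨y', hy1, hy2, hy3⟩ := exists_com' h1 hF (by omega) (by omega) hy hby
  have h2 := scalar_of_both h1 h0 hF hn hodd hy1 hy2 hx1 hx2 hy3 hx3
  rw [h2, orderOf_one] at hb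
  exact Nat.not_prime_one hb

theorem inc_odd {r₀ r₁ : ℕ} (h0 : Ty q r₀ n) (h1 : Ty q r₁ (n - 1)) (hF : Fintype.card F = q ^ 2) (hn : 4 ≤ n)
    (hodd : Odd n) {p f : ℕ} (hp : p.Prime) (hf : f ≠ 0) (hq : q = p ^ f)
    (hord : orderOf (p : ZMod r₀) = 2 * f * n) : Inc (PSU n F q) r₀ r₁ := by
  intro b hb hb2 x hx hbx y hy hby
  obtain ⟨A, rfl⟩ := linear_of_fix h0 hF (by omega) (by omega) (by omega) (by omega) hp hf hq hord b hb hb2 hx hbx
  obtain ⟨x', hx1, hx2, hx3⟩ := exists_com' h0 hF (by omega) (by omega) hx hbx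
  obtain ⟨y', hy1, hy2, hy3⟩ := exists_com' h1 hF (by omega) (by omega) hy hby
  obtain ⟨v, hv, hv0⟩ := fx_ne_bot h1 hF (by omega) (by omega) hy1
  have hle := h1.le_sub hF hy1 hy2
  have hA := hy3.fx_inv v hv
  have h2 : finrank F (fx y') = 1 := by
    have h3 : finrank F (fx y') ≠ 0 := fun h4 => by
      rw [Submodule.finrank_eq_zero] at h4
      rw [h4, Submodule.mem_bot] at hv
      exact hv0 hv
    omega
  obtain ⟨c, hc⟩ := (finrank_eq_one_iff_of_nonzero' (⟨v, hv⟩ : fx y') (fun h4 => hv0 (congrArg Subtype.val h4))).1 h2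
    ⟨gm A *ᵥ v, hA⟩
  have hc' : gm A *ᵥ v = c • v := (congrArg Subtype.val hc).symm
  have h3 := h0.scalar_of_eigen hF (by omega) hodd hx1 hx2 hx3 hv0 hc'
  have h4 := toAut_eq_one_of_scalar (by omega) h3
  rw [h4, orderOf_one] at hb
  exact Nat.not_prime_one hb

/-! ### assembly -/

/-- the other primes -/
theorem num {r₀ r₁ : ℕ} (h0 : Ty q r₀ n) (h1 : Ty q r₁ (n - 1)) (hF : Fintype.card F = q ^ 2) (hn : 4 ≤ n)
    {p f : ℕ} (hp : p.Prime) (hf : f ≠ 0) (hq : q = p ^ f) {t : ℕ} (ht : t.Prime) (ht2 : t ≠ 2) (htp : t ≠ p)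
    (htS : t ∣ Nat.card (PSU n F q)) :
    ((out (PSU n F q)).factorization t < v t (PSU n F q) ∧ ∀ y : PSU n F q, orderOf y = t →
      v p (centralizer ({y} : Set (PSU n F q))) ≤ 0) ∨
    ∀ x y : PSU n F q, orderOf x = r₀ → orderOf y = r₁ →
      v t (centralizer ({x} : Set (PSU n F q))) + v t (centralizer ({y} : Set (PSU n F q))) +
        (out (PSU n F q)).factorization t < v t (PSU n F q) := by
  have hq2 := two_le hF
  have htq : ¬ t ∣ q := by
    intro h2
    rw [hq] at h2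
    exact htp ((Nat.prime_dvd_prime_iff_eq ht hp).1 (ht.dvd_of_dvd_pow h2))
  obtain ⟨k, hk⟩ := Ty.exists_of_not_dvd ht htq
  have hkn : k ≤ n := by
    apply hk.le_of_dvd hF (by omega)
    rw [card_SU_eq hF (by omega)]
    exact Dvd.dvd.mul_right htS _
  have hk0 := hk.pos
  by_cases hkb : k = n ∨ k + 1 = n
  · left
    refine ⟨out_lt hk hF (by omega) (by omega) hp hf hq (by omega) hkn ht2, fun y hy => ?_⟩
    rw [v_cent_p hk hF (by omega) hkb (by omega) hp hf hq hy]
  · right
    intro x y hx hy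
    obtain ⟨j, hj2, hjn, hkj⟩ : ∃ j, 2 ≤ j ∧ j + 2 ≤ n ∧ k ∣ j := by
      by_cases hk1 : k = 1
      · exact ⟨2, le_rfl, by omega, by rw [hk1]; exact one_dvd _⟩
      · exact ⟨k, by omega, by omega, dvd_rfl⟩
    have h2 := v_cent h0 hF (by omega) (Or.inl rfl) (by omega) hx t
    have h3 := v_cent h1 hF (by omega) (Or.inr (by omega)) (by omega) hy t
    have h4 := lte hp hf hq ht ht2 (by omega) ((dvd_tor hk (by omega) (m := j) (by omega)).2 hkj)
    have h5 := v_SU_ge hF (by omega : 1 ≤ n) t {j, n - 1, n} (by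
      intro m hm
      simp only [Finset.mem_insert, Finset.mem_singleton] at hm
      rw [Finset.mem_Icc]
      omega)
    rw [Finset.sum_insert (by simp only [Finset.mem_insert, Finset.mem_singleton]; omega),
      Finset.sum_insert (by simp only [Finset.mem_singleton]; omega), Finset.sum_singleton] at h5
    have h6 := v_add hF (by omega : 3 ≤ n) t
    rw [out_fact hF (by omega) (by omega) hp hf hq]
    omega

/-- **The criterion with two primes.** -/
theorem core {r₀ r₁ : ℕ} (h0 : Ty q r₀ n) (h1 : Ty q r₁ (n - 1)) (hF : Fintype.card F = q ^ 2) (hn : 4 ≤ n)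
    {p f : ℕ} [hp : Fact p.Prime] [CharP F p] (hf : f ≠ 0) (hq : q = p ^ f) (hr0 : n < r₀) (hr1 : n < r₁)
    (hinc : Inc (PSU n F q) r₀ r₁) : Row (PSU n F q) := by
  have hZ := center_PSU (n := n) hF (by omega) (by omega)
  have h3f := three_f_le hF (by omega : 3 ≤ n) hp.1 hf hq
  have ho := out_fact_p hF (by omega : 3 ≤ n) (by omega) hp.1 hf hq
  have hk0 : n = n ∨ n + 1 = n := Or.inl rfl
  have hk1 : n - 1 = n ∨ n - 1 + 1 = n := Or.inr (by omega)
  have hne : r₀ ≠ r₁ := by
    rintro rfl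
    have := h0.unique h1
    omega
  have hV : f * n ≤ v p (PSU n F q) := by
    rw [v_PSU hF (by omega) hp.1 hf hq]
    apply Nat.mul_le_mul_left
    have h2 : n * 2 ≤ n * (n - 1) := Nat.mul_le_mul_left _ (by omega)
    omega
  have hinq : p ≠ 2 → ∀ e, Even e → (e = n ∨ e + 1 = n) → 4 ≤ e →
      n.factorization p + (n - 1).factorization p + (out (PSU n F q)).factorization p < f * (e - 2) ∧
        f * (e - 2) ≤ v p (PSU n F q) := by
    intro hp2 e he hen he4
    have h2 := log_ineq hp.1 hp2 hn hen he4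
    have h3 : (out (PSU n F q)).factorization p < f := by
      rw [out_fact hF (by omega) (by omega) hp.1 hf hq, gcd_fact_p hp.1 hf hq, zero_add,
        Nat.factorization_mul two_ne_zero hf, Finsupp.add_apply, Nat.prime_two.factorization,
        Finsupp.single_eq_of_ne (fun h => hp2 h), zero_add]
      exact Nat.factorization_lt _ hf
    have h4 : f * (e - 2) = f * (e - 3) + f := by
      have : e - 2 = (e - 3) + 1 := by omega
      rw [this, mul_add, mul_one]
    have h5 : e - 3 ≤ f * (e - 3) := Nat.le_mul_of_pos_left _ (by omega)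
    have h6 : f * (e - 2) ≤ f * n := Nat.mul_le_mul_left _ (by omega)
    omega
  refine Two.row hZ (p := p) (r₀ := r₀) (r₁ := r₁) (c₀ := 0) (c₁ := 0) (cE := 0)
    (m₀ := (if Even n then v p (PSU n F q) - f * (n - 2) else 0) + n.factorization p)
    (m₁ := (if Even (n - 1) then v p (PSU n F q) - f * (n - 1 - 2) else 0) + (n - 1).factorization p) ?_
  refine
    { prime := hp.1
      good₀ := good h0 hF (by omega) (by omega) hp.1 hf hq (by omega) le_rfl
      good₁ := good h1 hF (by omega) (by omega) hp.1 hf hq (by omega) (by omega)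
      cent₀ := fun x hx => (v_cent_p h0 hF (by omega) hk0 (by omega) hp.1 hf hq hx).le
      cent₁ := fun x hx => (v_cent_p h1 hF (by omega) hk1 (by omega) hp.1 hf hq hx).le
      noOdd := ?_
      inc := hinc
      syl₀ := fun b hb hb2 hbp x _ _ => by
        have := syl_all hF (by omega) (by omega) hf hq b hb hb2 hbp
        rw [max_self, add_zero]
        exact this
      syl₁ := fun b hb hb2 hbp x _ _ => by
        have := syl_all hF (by omega) (by omega) hf hq b hb hb2 hbp
        rw [max_self, add_zero]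
        exact this
      cc := by omega
      num := fun t ht ht2 htp htS _ _ => num h0 h1 hF hn hp.1 hf hq ht ht2 htp htS
      odd₀ := fun _ H hH hrH => odd_of h0 hF (by omega) hk0 (by omega) hf hq H hH hrH
      odd₁ := fun _ H hH hrH => odd_of h1 hF (by omega) hk1 (by omega) hf hq H hH hrH
      n₀ := fun hp2 => ?_
      n₁ := fun hp2 => ?_
      n₀₁ := fun hp2 => ?_ }
  · refine noOdd_of_uniq h0.prime h1.prime hne (uniq h0 hF (by omega) hk0 (by omega))
      (uniq h1 hF (by omega) hk1 (by omega)) (fun x hx => ?_) (fun x hx => ?_)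
    · exact not_dvd_norm h0 hF (by omega) hk0 (by omega) h1 (by
        intro hd
        have h2 : n - 1 ∣ 1 :=
          (Nat.dvd_add_right (dvd_refl (n - 1))).1 (by rwa [Nat.sub_add_cancel (by omega)])
        have := Nat.le_of_dvd (by norm_num) h2
        omega) hr1 hx
    · exact not_dvd_norm h1 hF (by omega) hk1 (by omega) h0 (by
        intro hd
        have := Nat.le_of_dvd (by omega) hd
        omega) hr0 hx
  all_goals
    rcases Nat.even_or_odd n with he | he
    · have he' : ¬ Even (n - 1) := by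
        rw [Nat.not_even_iff_odd]
        obtain ⟨a, ha⟩ := he
        exact ⟨a - 1, by omega⟩
      have h2 := hinq hp2 n he (Or.inl rfl) hn
      simp only [if_pos he, if_neg he']
      omega
    · have he' : Even (n - 1) := by
        obtain ⟨a, ha⟩ := he
        exact ⟨a, by omega⟩
      have h5 : 4 ≤ n - 1 := by
        obtain ⟨a, ha⟩ := he
        omega
      have h2 := hinq hp2 (n - 1) he' (Or.inr (by omega)) h5
      simp only [if_pos he', if_neg (Nat.not_even_iff_odd.2 he)]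
      omega

/-- **Composite `n`.** -/
theorem row_composite (hF : Fintype.card F = q ^ 2) (hn : 4 ≤ n) (h42 : ¬ (n = 4 ∧ q = 2)) (hnp : ¬ n.Prime) :
    Row (PSU n F q) := by
  have hq := two_le hF
  obtain ⟨p, f, hp, hch, hqr, hf⟩ := exists_prime_pow hF
  have := Fact.mk hp
  rcases Nat.even_or_odd n with he | he
  · have hodd : Odd (n - 1) := by
      obtain ⟨a, ha⟩ := he
      exact ⟨a - 1, by omega⟩
    obtain ⟨r₁, h1, hord, hr1, -⟩ := exists_odd hp hf hqr hodd (by omega) (by omega)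
    obtain ⟨r₀, h0, hr0⟩ := exists_even hp hf hqr he hn
    exact core h0 h1 hF hn (by omega) hqr hr0 (by omega) (inc_even h0 h1 hF hn hodd hp (by omega) hqr hord)
  · have heven : Even (n - 1) := by
      obtain ⟨a, ha⟩ := he
      exact ⟨a, by omega⟩
    have h5 : 5 ≤ n := by
      obtain ⟨a, ha⟩ := he
      omega
    obtain ⟨r₀, h0, hord, hr0, -⟩ := exists_odd hp hf hqr he (by omega) (by omega)
    obtain ⟨r₁, h1, hr1⟩ := exists_even hp hf hqr heven (by omega)
    have hne : r₁ ≠ n := by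
      rintro rfl
      exact hnp h1.prime
    exact core h0 h1 hF hn (by omega) hqr (by omega) (by omega) (inc_odd h0 h1 hF hn he hp (by omega) hqr hord)

end Cfsg.Agent.H715.PDU
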