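import Cfsg.Agent.H715.PDU.Root
import Cfsg.Agent.H173.RU.Schur

/-!
# Row PSU of S4246: the `p`-part of the centralisers of semisimple elements

`card_le_of_semisimple` : a `p`-subgroup of `SU n F q` centralised by a non-scalar `A` in `GU n F q` with
`toAut A 1 ^ j = 1`, `j` prime to `p`, has index at least `q ^ 2` in a Sylow `p`-subgroup.
-/

set_option autoImplicit false

namespace Cfsg.Agent.H715.PDU

open Cfsg Module Matrix Subgroup
open Cfsg.Agent.LieClassical.HermBasic Cfsg.Agent.LieClassical.HermSiegel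
open Cfsg.Agent.ClassicalGeometry.HermOrtho
open Cfsg.Agent.ClassicalGeometry.PSUAutBasic (pr pr_surjective pr_eq_one_iff exists_center_mul)
open Cfsg.Agent.ClassicalGeometry.PSUAutCount (gm gm_mul gm_one gm_mul_inv gm_inv_mul gm_inj herm_gm gm_inv_mulVec
  gm_mulVec_inv semiConj toAut toAut_pr act_semiConj eq_of_toAut_eq sc gm_sc_mul toAut_sc_mul)
open Cfsg.Agent.CpAutU.Desc (toAut_mul toAut_one)
open Cfsg.Agent.GpUn
open Cfsg.Agent.H173.RU

variable {F : Type*} [Field F] [Fintype F] {q n : ℕ}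

/-- **The fixed vectors of a very large subgroup of a root group.** -/
theorem FxV_eq_span (hF : Fintype.card F = q ^ 2) {u : Fin n → F} (hn : 3 ≤ n)
    (hu : hermForm n F q u u = 0) (hu0 : u ≠ 0) (Q : Subgroup (SU n F q))
    (hQ : Q.relIndex (sg hF u hu) < q ^ 2) {x : Fin n → F} (hx : x ∈ FxV (Q ⊓ sg hF u hu)) :
    ∃ c : F, x = c • u := by
  have hq2 : 0 < q ^ 2 := pow_pos (q_pos hF) _
  have h1 : Q.relIndex (sg hF u hu) < (q ^ 2) ^ (n - 2) := by
    refine lt_of_lt_of_le hQ ?_
    calc q ^ 2 = (q ^ 2) ^ 1 := (pow_one _).symm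
      _ ≤ (q ^ 2) ^ (n - 2) := Nat.pow_le_pow_right hq2 (by omega)
  have h2 := orth_of_fix hF (by omega) hu hu0 Q h1 hx
  by_contra hcon
  have hli : LinearIndependent F ![u, x] := by
    rw [LinearIndependent.pair_iff' hu0]
    intro a ha
    exact hcon ⟨a, ha.symm⟩
  have h3 := le_relIndex hF (d := 1) ![u, x] hu (by
    intro i
    fin_cases i
    · exact hu
    · exact h2) hli Q (by
    intro g hg i
    fin_cases i
    · obtain ⟨w, μ, h, rfl⟩ := (mem_sg hF hu).1 hg.2
      exact act_siegel_self hF h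
    · exact hx g hg)
  rw [pow_one] at h3
  exact absurd hQ (not_lt.2 h3)

omit [Fintype F] in
theorem toAut_pow (A : GU n F q) (j : ℕ) : toAut (A ^ j) 1 = toAut A 1 ^ j := by
  induction j with
  | zero => rw [pow_zero, pow_zero, toAut_one]
  | succ j ih =>
    rw [pow_succ, pow_succ, ← ih, toAut_mul]
    rfl

/-- **Large `p`-subgroups are not centralised by semisimple elements.** -/
theorem card_le_of_semisimple (hF : Fintype.card F = q ^ 2) (hn : 3 ≤ n) {p : ℕ} [hp : Fact p.Prime] [CharP F p]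
    {A : GU n F q} {j : ℕ} (hj : j.Coprime p) (hA : toAut A 1 ^ j = 1) (hA1 : toAut A 1 ≠ 1)
    (Q : Subgroup (SU n F q)) (hQ : IsPGroup p Q) (hcom : ∀ g ∈ Q, Com A g) :
    q ^ 2 * Nat.card Q ≤ p ^ (Nat.card (SU n F q)).factorization p := by
  obtain ⟨u, hu, hu0, hle⟩ := exists_root hF (by omega) Q hQ
  refine (Nat.mul_le_mul_right _ ?_).trans hle
  by_contra hcon
  push Not at hcon
  have hspan : ∀ x ∈ FxV (Q ⊓ sg hF u hu), ∃ c : F, x = c • u := fun x hx =>
    FxV_eq_span hF hn hu hu0 Q hcon hx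
  apply hA1
  -- `u` is fixed by `Q`
  have huQ : u ∈ FxV Q := by
    obtain ⟨v, -, hv0, hv⟩ := exists_fixed hF Q hQ ⊤ (fun _ _ _ _ => Submodule.mem_top) (by
      intro h0
      have h1 : u ∈ (⊤ : Submodule F (Fin n → F)) := Submodule.mem_top
      rw [h0, Submodule.mem_bot] at h1
      exact hu0 h1)
    obtain ⟨c, hc⟩ := hspan v (fun g hg => hv g hg.1)
    have hc0 : c ≠ 0 := by
      rintro rfl
      rw [zero_smul] at hc
      exact hv0 hc
    have h1 : u = c⁻¹ • v := by rw [hc, smul_smul, inv_mul_cancel₀ hc0, one_smul]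
    rw [h1]
    exact Submodule.smul_mem _ _ hv
  -- `A u = μ u`
  obtain ⟨μ, hμ⟩ : ∃ μ : F, gm A *ᵥ u = μ • u := by
    apply hspan
    intro g hg
    rw [← hcom g hg.1, huQ g hg.1]
  -- on the orthogonal space
  have hperp : ∀ x : Fin n → F, hermForm n F q x u = 0 → ∃ c : F, gm A *ᵥ x = μ • x + c • u := by
    intro x hx
    obtain ⟨c, hc⟩ := hspan (gm A *ᵥ x - μ • x) (by
      intro g hg
      have h1 := hcom g hg.1 x
      obtain ⟨w, ν, h, rfl⟩ := (mem_sg hF hu).1 hg.2
      have h2 : act (siegel hF u w ν h) x = x - hermForm n F q x w • u := by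
        rw [act_siegel, hx, zero_smul, mul_zero, zero_sub, add_zero, neg_smul, sub_eq_add_neg]
      rw [h2, mulVec_sub, mulVec_smul, hμ] at h1
      rw [act_sub, act_smul, ← h1, h2, smul_sub, smul_smul, smul_smul, mul_comm μ]
      abel)
    exact ⟨c, by rw [← hc]; abel⟩
  have hμq : μ * μ ^ q = 1 := by
    obtain ⟨y, hy0, hyZ, hli⟩ := exists_family hu0 (pp q u) 1 (by have := finrank_pp hF hu0; omega)
    have hy1 : hermForm n F q (y 1) u = 0 := mem_pp.1 (hyZ 1 (by simp))
    have hnf : y 1 ∉ FxV (Q ⊓ sg hF u hu) := by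
      intro hf
      obtain ⟨c, hc⟩ := hspan _ hf
      rw [← hy0] at hc
      have h1 : c = 1 ∧ False := by
        have h2 := LinearIndependent.pair_iff.1 (show LinearIndependent F ![y 0, y 1] by
          have : ![y 0, y 1] = y := by
            funext i
            fin_cases i <;> rfl
          rw [this]
          exact hli) c (-1) (by rw [hc]; simp)
        exact absurd h2.2 (by simp)
      exact h1.2
    rw [mem_FxV] at hnf
    push Not at hnf
    obtain ⟨g, hg, hgy⟩ := hnf
    obtain ⟨w, ν, h, rfl⟩ := (mem_sg hF hu).1 hg.2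
    have h2 : hermForm n F q (y 1) w ≠ 0 := by
      intro h3
      exact hgy (act_siegel_of_orth hF h hy1 h3)
    obtain ⟨c, hc⟩ := hperp (y 1) hy1
    obtain ⟨c', hc'⟩ := hperp w h.orth
    have h3 := herm_gm A (y 1) w
    rw [hc, hc'] at h3
    simp only [herm_add_left, herm_add_right hF, herm_smul_left, herm_smul_right, hu, hy1, h.orth' hF, mul_zero,
      add_zero] at h3
    have h4 : (μ * μ ^ q - 1) * hermForm n F q (y 1) w = 0 := by linear_combination h3
    rcases mul_eq_zero.1 h4 with h5 | h5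
    · exact sub_eq_zero.1 h5
    · exact absurd h5 h2
  have hμ0 : μ ≠ 0 := by
    rintro rfl
    rw [zero_mul] at hμq
    exact zero_ne_one hμq
  have hall : ∀ v : Fin n → F, hermForm n F q (gm A *ᵥ v - μ • v) u = 0 := by
    intro v
    have h1 := herm_gm A v u
    rw [hμ, herm_smul_right] at h1
    rw [herm_sub_left, herm_smul_left, ← h1]
    linear_combination (hermForm n F q (gm A *ᵥ v) u) * (-hμq)
  -- `A - μ` is nilpotent
  have key : ∀ v : Fin n → F, (gm A - μ • (1 : Matrix (Fin n) (Fin n) F)) *ᵥ v = gm A *ᵥ v - μ • v := by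
    intro v
    rw [sub_mulVec, smul_mulVec, one_mulVec]
  have hnil : (gm A - μ • (1 : Matrix (Fin n) (Fin n) F)) ^ 3 = 0 := by
    apply Matrix.ext_of_mulVec_single
    intro i
    rw [pow_succ, pow_two, zero_mulVec, ← mulVec_mulVec, ← mulVec_mulVec, key (Pi.single i 1)]
    obtain ⟨c, hc⟩ := hperp _ (hall (Pi.single i 1))
    rw [key (gm A *ᵥ Pi.single i 1 - μ • Pi.single i 1), hc, add_sub_cancel_left, key, mulVec_smul, hμ, smul_comm,
      sub_self]
  obtain ⟨k, -, hcard⟩ := FiniteField.card F p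
  have h3 : 3 ≤ Fintype.card F := by have := two_le hF; rw [hF]; nlinarith
  have hne : Nonempty (Fin n) := ⟨⟨0, by omega⟩⟩
  have hpow : (gm A) ^ Fintype.card F = μ • (1 : Matrix (Fin n) (Fin n) F) := by
    have h4 : (gm A - μ • (1 : Matrix (Fin n) (Fin n) F)) ^ Fintype.card F =
        gm A ^ Fintype.card F - (μ • (1 : Matrix (Fin n) (Fin n) F)) ^ Fintype.card F := by
      rw [hcard]
      exact sub_pow_char_pow_of_commute (R := Matrix (Fin n) (Fin n) F) (p := p) (n := (k : ℕ))
        ((Commute.one_right (gm A)).smul_right μ)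
    obtain ⟨m, hm⟩ := Nat.exists_eq_add_of_le h3
    have h5 : (gm A - μ • (1 : Matrix (Fin n) (Fin n) F)) ^ Fintype.card F = 0 := by
      rw [hm, pow_add, hnil, zero_mul]
    rw [h5] at h4
    rw [sub_eq_zero.1 h4.symm, smul_pow, one_pow, FiniteField.pow_card]
  have h4 : toAut A 1 ^ Fintype.card F = 1 := by
    rw [← toAut_pow]
    apply toAut_eq_one_of_scalar hn (c := μ)
    intro v
    rw [gm_pow, hpow, smul_mulVec, one_mulVec]
  have h5 : orderOf (toAut A 1) ∣ Nat.gcd j (Fintype.card F) :=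
    Nat.dvd_gcd (orderOf_dvd_of_pow_eq_one hA) (orderOf_dvd_of_pow_eq_one h4)
  rw [hcard, (hj.pow_right _), Nat.dvd_one, orderOf_eq_one_iff] at h5
  exact h5

end Cfsg.Agent.H715.PDU
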